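import Mathlib

/-!
# The local data of a point stabilizer with a suborbit of length three
-/

set_option autoImplicit false
set_option linter.unusedSectionVars false

namespace CfsgLib.Char.SuborbitThree

open Subgroup

universe u

variable {G : Type u} [Group G]

/-- Conjugate subgroup. -/
def cj (g : G) (S : Subgroup G) : Subgroup G := S.map (MulAut.conj g).toMonoidHom

theorem mem_cj {g : G} {S : Subgroup G} {y : G} : y ∈ cj g S ↔ g⁻¹ * y * g ∈ S := by
  constructor
  · rintro ⟨s, hs, rfl⟩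
    show g⁻¹ * (g * s * g⁻¹) * g ∈ S
    rwa [show g⁻¹ * (g * s * g⁻¹) * g = s by group]
  · intro h
    exact ⟨_, h, show g * (g⁻¹ * y * g) * g⁻¹ = y by group⟩

theorem conj_mem_cj {g : G} {S : Subgroup G} {s : G} (hs : s ∈ S) : g * s * g⁻¹ ∈ cj g S :=
  ⟨s, hs, rfl⟩

theorem cj_mul (g h : G) (S : Subgroup G) : cj (g * h) S = cj g (cj h S) := by
  ext y
  simp only [mem_cj, mul_inv_rev, mul_assoc]

theorem cj_one (S : Subgroup G) : cj (1 : G) S = S := by
  ext y
  simp [mem_cj]

theorem cj_mono {g : G} {S T : Subgroup G} (h : S ≤ T) : cj g S ≤ cj g T := Subgroup.map_mono h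

theorem cj_sup (g : G) (S T : Subgroup G) : cj g (S ⊔ T) = cj g S ⊔ cj g T := Subgroup.map_sup _ _ _

theorem card_cj (g : G) (S : Subgroup G) : Nat.card (cj g S) = Nat.card S :=
  Nat.card_congr (S.equivMapOfInjective _ (MulAut.conj g).injective).toEquiv.symm

theorem cj_le_iff {g : G} {S T : Subgroup G} : cj g S ≤ T ↔ S ≤ cj g⁻¹ T := by
  constructor
  · intro h s hs
    rw [mem_cj, inv_inv]
    exact h (conj_mem_cj hs)
  · rintro h _ ⟨s, hs, rfl⟩
    have h' := h hs
    rw [mem_cj, inv_inv] at h'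
    exact h'

theorem cj_self {g : G} {S : Subgroup G} (hg : g ∈ S) : cj g S = S := by
  ext y
  rw [mem_cj, S.mul_mem_cancel_right hg, S.mul_mem_cancel_left (S.inv_mem hg)]

theorem card_le_two_mul_of_prod [Finite G] {K L : Subgroup G} (hKL : K ≤ L)
    (h : ∀ e ∈ L, ∀ e' ∈ L, e ∉ K → e' ∉ K → e * e' ∈ K) : Nat.card L ≤ 2 * Nat.card K := by
  classical
  by_cases hLK : L ≤ K
  · have := Subgroup.card_le_of_le hLK
    omega
  obtain ⟨e, he, heK⟩ : ∃ e, e ∈ L ∧ e ∉ K := by
    by_contra hc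
    exact hLK fun x hx => by
      by_contra hxK
      exact hc ⟨x, hx, hxK⟩
  let f : L → K ⊕ K := fun x =>
    if hx : (x : G) ∈ K then .inl ⟨x, hx⟩ else .inr ⟨e * x, h e he x x.2 heK hx⟩
  have hf : Function.Injective f := by
    intro x y hxy
    simp only [f] at hxy
    split_ifs at hxy
    · simp only [Sum.inl.injEq, Subtype.mk.injEq] at hxy
      exact Subtype.ext hxy
    · simp only [Sum.inr.injEq, Subtype.mk.injEq] at hxy
      exact Subtype.ext (mul_left_cancel hxy)
  have := Nat.card_le_card_of_injective f hf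
  rw [Nat.card_sum] at this
  omega

theorem card_sup_mul_inf_ge [Finite G] (S T : Subgroup G) :
    Nat.card S * Nat.card T ≤ Nat.card ↥(S ⊔ T) * Nat.card ↥(S ⊓ T) := by
  have h1 : Nat.card ↥(S ⊔ T) = Nat.card S * S.relIndex (S ⊔ T) := by
    rw [← relIndex_bot_left, ← relIndex_bot_left, relIndex_mul_relIndex _ _ _ bot_le le_sup_left]
  have h2 : Nat.card T = Nat.card ↥(S ⊓ T) * S.relIndex T := by
    rw [← inf_relIndex_right, ← relIndex_bot_left, ← relIndex_bot_left,
      relIndex_mul_relIndex _ _ _ bot_le inf_le_right]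
  have h3 : S.relIndex T ≤ S.relIndex (S ⊔ T) :=
    relIndex_le_of_le_right le_sup_right (by
      intro h0
      rw [h0, mul_zero] at h1
      exact Nat.card_pos.ne' h1)
  rw [h1, h2]
  calc Nat.card S * (Nat.card ↥(S ⊓ T) * S.relIndex T)
      ≤ Nat.card S * (Nat.card ↥(S ⊓ T) * S.relIndex (S ⊔ T)) :=
        Nat.mul_le_mul_left _ (Nat.mul_le_mul_left _ h3)
    _ = Nat.card S * S.relIndex (S ⊔ T) * Nat.card ↥(S ⊓ T) := by ring

/-- Elementary abelian two-subgroups. -/
def IsEl (S : Subgroup G) : Prop := ∀ x ∈ S, x * x = 1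

theorem IsEl.inv_eq {S : Subgroup G} (h : IsEl S) {x : G} (hx : x ∈ S) : x⁻¹ = x :=
  inv_eq_of_mul_eq_one_right (h x hx)

theorem IsEl.comm {S : Subgroup G} (h : IsEl S) {x y : G} (hx : x ∈ S) (hy : y ∈ S) :
    x * y = y * x := by
  have := h.inv_eq (S.mul_mem hx hy)
  rw [mul_inv_rev, h.inv_eq hx, h.inv_eq hy] at this
  exact this.symm

theorem commute_sup {S T U : Subgroup G} (h1 : ∀ a ∈ S, ∀ b ∈ U, a * b = b * a)
    (h2 : ∀ a ∈ T, ∀ b ∈ U, a * b = b * a) : ∀ a ∈ S ⊔ T, ∀ b ∈ U, a * b = b * a := by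
  intro a ha b hb
  have hle : S ⊔ T ≤ centralizer ({b} : Set G) := sup_le
    (fun s hs => mem_centralizer_singleton_iff.2 (h1 s hs b hb))
    (fun s hs => mem_centralizer_singleton_iff.2 (h2 s hs b hb))
  exact mem_centralizer_singleton_iff.1 (hle ha)

theorem isEl_sup {S T : Subgroup G} (hS : IsEl S) (hT : IsEl T)
    (hc : ∀ a ∈ S, ∀ b ∈ T, a * b = b * a) : IsEl (S ⊔ T) := by
  intro x hx
  rw [sup_eq_closure] at hx
  suffices x * x = 1 ∧ (∀ a ∈ S, a * x = x * a) ∧ (∀ a ∈ T, a * x = x * a) from this.1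
  induction hx using closure_induction with
  | mem y hy =>
    rcases hy with hy | hy
    · exact ⟨hS y hy, fun a ha => hS.comm ha hy, fun a ha => (hc y hy a ha).symm⟩
    · exact ⟨hT y hy, fun a ha => hc a ha y hy, fun a ha => hT.comm ha hy⟩
  | one => exact ⟨one_mul 1, fun a _ => by rw [mul_one, one_mul], fun a _ => by rw [mul_one, one_mul]⟩
  | mul y w hy hw ihy ihw =>
    obtain ⟨y1, y2, y3⟩ := ihy
    obtain ⟨w1, w2, w3⟩ := ihw
    refine ⟨?_, fun a ha => by rw [← mul_assoc, y2 a ha, mul_assoc, w2 a ha, mul_assoc],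
      fun a ha => by rw [← mul_assoc, y3 a ha, mul_assoc, w3 a ha, mul_assoc]⟩
    have hwy : w * y = y * w := by
      have hcen : closure ((S : Set G) ∪ T) ≤ centralizer ({w} : Set G) := by
        rw [closure_le]
        rintro a (ha | ha)
        · exact mem_centralizer_singleton_iff.2 (w2 a ha)
        · exact mem_centralizer_singleton_iff.2 (w3 a ha)
      exact (mem_centralizer_singleton_iff.1 (hcen hy)).symm
    rw [show y * w * (y * w) = y * (w * y) * w by group, hwy,
      show y * (y * w) * w = (y * y) * (w * w) by group, y1, w1, mul_one]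
  | inv y hy ihy =>
    obtain ⟨y1, y2, y3⟩ := ihy
    rw [inv_eq_of_mul_eq_one_right y1]
    exact ⟨y1, y2, y3⟩

/-- A maximal core free subgroup of order `3 * 2 ^ k`, its Sylow subgroup and a moving normalizer. -/
structure Hyp (H B : Subgroup G) (g : G) (k : ℕ) : Prop where
  coatom : IsCoatom H
  core : ∀ N : Subgroup G, N.Normal → N ≤ H → N = ⊥
  cardH : Nat.card H = 3 * 2 ^ k
  cardB : Nat.card B = 2 ^ k
  le : B ≤ H
  norm : cj g B = B
  notMem : g ∉ H

variable [Finite G] {H B : Subgroup G} {g : G} {k : ℕ}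

theorem Hyp.eq_bot_of_normalized (h : Hyp H B g k) {N : Subgroup G} (hN : N ≤ H)
    (hH : ∀ a ∈ H, cj a N = N) {t : G} (htH : t ∉ H) (ht : cj t N = N) : N = ⊥ := by
  refine h.core N ?_ hN
  set M : Subgroup G :=
    { carrier := {a | cj a N = N}
      one_mem' := cj_one N
      mul_mem' := fun {a b} (ha : cj a N = N) (hb : cj b N = N) => by
        show cj (a * b) N = N
        rw [cj_mul, hb, ha]
      inv_mem' := fun {a} (ha : cj a N = N) => by
        show cj a⁻¹ N = N
        conv_lhs => rw [← ha]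
        rw [← cj_mul, inv_mul_cancel, cj_one] }
  have hM : M = ⊤ := h.coatom.2 M (lt_of_le_of_ne hH fun e => htH (e ▸ ht))
  refine ⟨fun a ha b => ?_⟩
  have hb : cj b N = N := (hM ▸ mem_top b : b ∈ M)
  rw [← hb]
  exact conj_mem_cj ha

theorem Hyp.eq_top_of (h : Hyp H B g k) {K : Subgroup G} (hHK : H ≤ K) {t : G} (ht : t ∈ K)
    (htH : t ∉ H) : K = ⊤ :=
  h.coatom.2 K (lt_of_le_of_ne hHK fun e => htH (e ▸ ht))

theorem Hyp.exists_three (h : Hyp H B g k) : ∃ x ∈ H, orderOf x = 3 := by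
  haveI : Fact (Nat.Prime 3) := ⟨Nat.prime_three⟩
  obtain ⟨x, hx⟩ := exists_prime_orderOf_dvd_card' (G := H) 3 (by rw [h.cardH]; exact dvd_mul_right 3 _)
  exact ⟨x, x.2, by rw [Subgroup.orderOf_coe, hx]⟩

theorem Hyp.three_notMem (h : Hyp H B g k) {x : G} (hx : orderOf x = 3) : x ∉ B := by
  intro hB
  have h3 : 3 ∣ Nat.card B := by
    rw [← hx, ← Subgroup.orderOf_mk x hB]
    exact orderOf_dvd_natCard _
  rw [h.cardB] at h3
  exact absurd ((Nat.prime_dvd_prime_iff_eq Nat.prime_three Nat.prime_two).1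
    (Nat.prime_three.dvd_of_dvd_pow h3)) (by norm_num)

/-- The setting with a chosen element of order three. -/
structure Data (H B : Subgroup G) (g : G) (k : ℕ) (x : G) : Prop extends Hyp H B g k where
  memH : x ∈ H
  order : orderOf x = 3

variable {x : G}

theorem Data.pow_three (h : Data H B g k x) : x * x * x = 1 := by
  rw [← pow_orderOf_eq_one x, h.order, pow_succ, pow_two]

theorem Data.inv_eq (h : Data H B g k x) : x⁻¹ = x * x :=
  inv_eq_of_mul_eq_one_left h.pow_three

theorem Data.xx_notMem (h : Data H B g k x) : x * x ∉ B := by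
  intro hB
  refine h.three_notMem h.order ?_
  rw [← h.inv_eq] at hB
  exact inv_inv x ▸ B.inv_mem hB

/-- The three cosets of `B` in `H`. -/
theorem Data.coset (h : Data H B g k x) {a : G} (ha : a ∈ H) :
    a ∈ B ∨ x⁻¹ * a ∈ B ∨ x * a ∈ B := by
  classical
  have hidx : (B.subgroupOf H).index = 3 := by
    have h1 := (B.subgroupOf H).card_mul_index
    rw [Nat.card_congr (subgroupOfEquivOfLe h.le).toEquiv, h.cardB, h.cardH, mul_comm 3] at h1
    exact Nat.eq_of_mul_eq_mul_left (by positivity) h1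
  let q : Fin 3 → H ⧸ B.subgroupOf H := ![((1 : H) : H ⧸ _), ((⟨x, h.memH⟩ : H) : H ⧸ _),
    ((⟨x * x, H.mul_mem h.memH h.memH⟩ : H) : H ⧸ _)]
  have key : ∀ u v : H, (u : H ⧸ B.subgroupOf H) = v → (u : G)⁻¹ * v ∈ B := fun u v e => by
    have := QuotientGroup.eq.1 e
    rwa [mem_subgroupOf, coe_mul, coe_inv] at this
  have hq : Function.Injective q := by
    intro i j e
    fin_cases i <;> fin_cases j <;> simp only [q, Matrix.cons_val_zero, Matrix.cons_val_one,
      Matrix.cons_val, Fin.isValue, Fin.zero_eta, Fin.mk_one, Fin.reduceFinMk] at e ⊢ <;>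
      first
        | rfl
        | exfalso
          have e' := key _ _ e
          simp only [coe_one, inv_one, one_mul, mul_one, mul_inv_rev] at e'
          first
            | exact h.three_notMem h.order e'
            | exact h.xx_notMem e'
            | exact h.three_notMem h.order (by simpa using B.inv_mem e')
            | exact h.xx_notMem (by simpa using B.inv_mem e')
            | exact h.three_notMem h.order (by simpa [mul_assoc] using e')
            | exact h.three_notMem h.order (by simpa [mul_assoc] using B.inv_mem e')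
  haveI : Fintype (H ⧸ B.subgroupOf H) := Fintype.ofFinite _
  obtain ⟨i, hi⟩ := ((Fintype.bijective_iff_injective_and_card q).2 ⟨hq, by
    rw [Fintype.card_fin, ← Nat.card_eq_fintype_card]; exact hidx.symm⟩).2 ((⟨a, ha⟩ : H) : H ⧸ _)
  fin_cases i <;> simp only [q, Matrix.cons_val_zero, Matrix.cons_val_one, Matrix.cons_val,
    Fin.isValue, Fin.zero_eta, Fin.mk_one, Fin.reduceFinMk] at hi
  · left; simpa using key _ _ hi
  · right; left; exact key _ _ hi
  · right; right
    have := key _ _ hi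
    simp only [← h.inv_eq, inv_inv] at this
    exact this

/-- A subgroup normalized by `B` and `x` is normalized by `H`. -/
theorem Data.normalized (h : Data H B g k x) {N : Subgroup G} (hB : ∀ b ∈ B, cj b N = N)
    (hx : cj x N = N) {a : G} (ha : a ∈ H) : cj a N = N := by
  have hx' : cj x⁻¹ N = N := by
    conv_lhs => rw [← hx]
    rw [← cj_mul, inv_mul_cancel, cj_one]
  rcases h.coset ha with hb | hb | hb
  · exact hB _ hb
  · rw [show a = x * (x⁻¹ * a) by group, cj_mul, hB _ hb, hx]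
  · rw [show a = x⁻¹ * (x * a) by group, cj_mul, hB _ hb, hx']

theorem Data.commutes (h : Data H B g k x) {u : G} (hB : ∀ b ∈ B, b * u = u * b)
    (hx : x * u = u * x) : ∀ a ∈ H, a * u = u * a := by
  have hcen : H ≤ centralizer ({u} : Set G) := by
    intro a ha
    have hBc : ∀ b ∈ B, b ∈ centralizer ({u} : Set G) := fun b hb =>
      mem_centralizer_singleton_iff.2 (hB b hb)
    have hxc : x ∈ centralizer ({u} : Set G) := mem_centralizer_singleton_iff.2 hx
    rcases h.coset ha with hb | hb | hb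
    · exact hBc _ hb
    · rw [show a = x * (x⁻¹ * a) by group]; exact mul_mem hxc (hBc _ hb)
    · rw [show a = x⁻¹ * (x * a) by group]; exact mul_mem (inv_mem hxc) (hBc _ hb)
  exact fun a ha => mem_centralizer_singleton_iff.1 (hcen ha)

/-- The core of `B` in `H`. -/
def bcore (H B : Subgroup G) : Subgroup G where
  carrier := {q | q ∈ B ∧ ∀ a ∈ H, a * q * a⁻¹ ∈ B}
  one_mem' := ⟨B.one_mem, fun a _ => by simp⟩
  mul_mem' := fun {p q} hp hq => ⟨B.mul_mem hp.1 hq.1, fun a ha => by
    rw [show a * (p * q) * a⁻¹ = (a * p * a⁻¹) * (a * q * a⁻¹) by group]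
    exact B.mul_mem (hp.2 a ha) (hq.2 a ha)⟩
  inv_mem' := fun {p} hp => ⟨B.inv_mem hp.1, fun a ha => by
    rw [show a * p⁻¹ * a⁻¹ = (a * p * a⁻¹)⁻¹ by group]
    exact B.inv_mem (hp.2 a ha)⟩

theorem bcore_le : bcore H B ≤ B := fun _ h => h.1

theorem cj_bcore {a : G} (ha : a ∈ H) : cj a (bcore H B) = bcore H B := by
  have key : ∀ b ∈ H, cj b (bcore H B) ≤ bcore H B := by
    rintro b hb _ ⟨q, hq, rfl⟩
    refine ⟨hq.2 b hb, fun c hc => ?_⟩
    show c * (b * q * b⁻¹) * c⁻¹ ∈ B
    rw [show c * (b * q * b⁻¹) * c⁻¹ = (c * b) * q * (c * b)⁻¹ by group]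
    exact hq.2 _ (H.mul_mem hc hb)
  exact le_antisymm (key a ha) ((cj_le_iff (g := a⁻¹)).1 (key a⁻¹ (H.inv_mem ha)) |>.trans_eq
    (by rw [inv_inv]))

theorem le_bcore {N : Subgroup G} (hN : N ≤ B) (hH : ∀ a ∈ H, cj a N = N) : N ≤ bcore H B :=
  fun q hq => ⟨hN hq, fun a ha => hN (hH a ha ▸ conj_mem_cj hq)⟩

theorem bcore_eq (h : Hyp H B g k) {x : G} (hd : Data H B g k x) {q : G} (hq : q ∈ B)
    (h1 : x⁻¹ * q * x ∈ B) (h2 : x * q * x⁻¹ ∈ B) : q ∈ bcore H B := by
  refine ⟨hq, fun a ha => ?_⟩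
  rcases hd.coset (H.inv_mem ha) with hb | hb | hb
  · have hb' : a ∈ B := inv_inv a ▸ B.inv_mem hb
    exact B.mul_mem (B.mul_mem hb' hq) (B.inv_mem hb')
  · rw [show a * q * a⁻¹ = (x⁻¹ * a⁻¹)⁻¹ * (x⁻¹ * q * x) * (x⁻¹ * a⁻¹) by group]
    exact B.mul_mem (B.mul_mem (B.inv_mem hb) h1) hb
  · rw [show a * q * a⁻¹ = (x * a⁻¹)⁻¹ * (x * q * x⁻¹) * (x * a⁻¹) by group]
    exact B.mul_mem (B.mul_mem (B.inv_mem hb) h2) hb

/-- A normal subgroup of `H` without the element of order three is inside the core. -/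
theorem Data.normal_cases (h : Data H B g k x) {C : Subgroup G} (hC : C ≤ H)
    (hn : ∀ a ∈ H, cj a C = C) : x ∈ C ∨ C ≤ bcore H B := by
  classical
  haveI : Fact (Nat.Prime 3) := ⟨Nat.prime_three⟩
  haveI : (C.subgroupOf H).Normal := ⟨fun c hc a => by
    rw [mem_subgroupOf] at hc ⊢
    rw [coe_mul, coe_mul, coe_inv, ← hn a a.2]
    exact conj_mem_cj hc⟩
  have hd : Nat.card (C.subgroupOf H) ∣ 3 * 2 ^ k := h.cardH ▸ Subgroup.card_subgroup_dvd_card _
  have hidx := (C.subgroupOf H).card_mul_index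
  rw [h.cardH] at hidx
  by_cases h3 : 3 ∣ Nat.card (C.subgroupOf H)
  · left
    have hcop : Nat.Coprime 3 (C.subgroupOf H).index := by
      rw [Nat.Prime.coprime_iff_not_dvd Nat.prime_three]
      intro h3'
      have h9 : 3 * 3 ∣ 3 * 2 ^ k := hidx ▸ Nat.mul_dvd_mul h3 h3'
      exact absurd ((Nat.prime_dvd_prime_iff_eq Nat.prime_three Nat.prime_two).1
        (Nat.prime_three.dvd_of_dvd_pow (Nat.dvd_of_mul_dvd_mul_left three_pos h9))) (by norm_num)
    have h1 : orderOf (QuotientGroup.mk' (C.subgroupOf H) ⟨x, h.memH⟩) = 1 := by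
      refine Nat.eq_one_of_dvd_coprimes hcop ?_ ?_
      · refine (orderOf_map_dvd _ _).trans ?_
        rw [Subgroup.orderOf_mk, h.order]
      · rw [Subgroup.index_eq_card]
        exact orderOf_dvd_natCard _
    rw [orderOf_eq_one_iff, QuotientGroup.mk'_apply, QuotientGroup.eq_one_iff] at h1
    exact h1
  · right
    have h2 : IsPGroup 2 (C.subgroupOf H) := by
      obtain ⟨j, -, hj⟩ := (Nat.dvd_prime_pow Nat.prime_two).1
        (((Nat.Prime.coprime_iff_not_dvd Nat.prime_three).2 h3).symm.dvd_of_dvd_mul_left hd)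
      exact IsPGroup.of_card hj
    have hB2 : IsPGroup 2 (B.subgroupOf H) := IsPGroup.of_card (n := k) (by
      rw [Nat.card_congr (subgroupOfEquivOfLe h.le).toEquiv, h.cardB])
    have hJ : IsPGroup 2 ↥(B.subgroupOf H ⊔ C.subgroupOf H) :=
      hB2.to_sup_of_normal_right h2
    haveI : Fact (Nat.Prime 2) := ⟨Nat.prime_two⟩
    obtain ⟨j, hj⟩ := IsPGroup.iff_card.1 hJ
    have hjd : 2 ^ j ∣ 3 * 2 ^ k := hj ▸ h.cardH ▸ Subgroup.card_subgroup_dvd_card _
    have hjk : 2 ^ j ∣ 2 ^ k := (Nat.Coprime.pow_left j (by norm_num)).dvd_of_dvd_mul_left hjd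
    have heq : B.subgroupOf H = B.subgroupOf H ⊔ C.subgroupOf H :=
      Subgroup.eq_of_le_of_card_ge le_sup_left (by
        rw [hj, Nat.card_congr (subgroupOfEquivOfLe h.le).toEquiv, h.cardB]
        exact Nat.le_of_dvd (by positivity) hjk)
    refine le_bcore (fun c hc => ?_) hn
    have : (⟨c, hC hc⟩ : H) ∈ B.subgroupOf H := heq ▸ mem_sup_right hc
    exact this

/-- The Sylow subgroup is normal in `H` only for the group of order three. -/
theorem Data.k_eq_zero (h : Data H B g k x) (hx : cj x B = B) : k = 0 := by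
  have hN : ∀ a ∈ H, cj a B = B := fun a ha => h.normalized (fun b hb => cj_self hb) hx ha
  have := h.eq_bot_of_normalized h.le hN h.notMem h.norm
  have h1 := h.cardB
  rw [this, card_bot] at h1
  rcases k with _ | k
  · rfl
  · exact absurd h1 (Nat.one_lt_pow k.succ_ne_zero one_lt_two).ne

/-- The elements outside the core move `x B` to the third coset. -/
theorem Data.swap (h : Data H B g k x) {a : G} (haB : a ∈ B) (ha : a ∉ bcore H B) :
    ∃ b ∈ B, a * x = x * x * b := by
  have haH : a * x ∈ H := H.mul_mem (h.le haB) h.memH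
  rcases h.coset haH with hb | hb | hb
  · exact absurd ((B.mul_mem_cancel_left haB).1 hb) (h.three_notMem h.order)
  · -- `a` fixes both cosets
    exfalso
    refine ha (bcore_eq h.toHyp h haB (by simpa [mul_assoc] using hb) ?_)
    rcases h.coset (H.mul_mem (h.le haB) (H.mul_mem h.memH h.memH)) with hb' | hb' | hb'
    · exact absurd ((B.mul_mem_cancel_left haB).1 hb') h.xx_notMem
    · have h3 : (x⁻¹ * (a * x))⁻¹ * (x⁻¹ * (a * (x * x))) ∈ B := B.mul_mem (B.inv_mem hb) hb'
      rw [show (x⁻¹ * (a * x))⁻¹ * (x⁻¹ * (a * (x * x))) = x by group] at h3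
      exact absurd h3 (h.three_notMem h.order)
    · rw [← h.inv_eq] at hb'
      simpa [mul_assoc] using hb'
  · refine ⟨x * (a * x), hb, ?_⟩
    rw [show x * x * (x * (a * x)) = (x * x * x) * (a * x) by group, h.pow_three, one_mul]

theorem Data.core_cj (h : Data H B g k x) : cj x (bcore H B) = bcore H B := cj_bcore h.memH

/-- The core has index at most two. -/
theorem Data.mul_mem_core (h : Data H B g k x) {a b : G} (haB : a ∈ B) (ha : a ∉ bcore H B)
    (hbB : b ∈ B) (hb : b ∉ bcore H B) : a * b ∈ bcore H B := by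
  by_contra hab
  obtain ⟨c, hc, e1⟩ := h.swap (B.mul_mem haB hbB) hab
  obtain ⟨d, hd, e2⟩ := h.swap hbB hb
  -- `a` maps the third coset to itself
  have e3 : a * (x * x) = x * x * (c * d⁻¹) := by
    have e4 : a * (b * x) = x * x * c := by rw [← e1, mul_assoc]
    rw [e2] at e4
    calc a * (x * x) = a * (x * x * d) * d⁻¹ := by group
      _ = x * x * c * d⁻¹ := by rw [e4]
      _ = x * x * (c * d⁻¹) := by group
  obtain ⟨f, hf, e5⟩ := h.swap haB ha
  have e6 : x⁻¹ * x⁻¹ * x⁻¹ = 1 := by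
    rw [show x⁻¹ * x⁻¹ * x⁻¹ = (x * x * x)⁻¹ by group, h.pow_three, inv_one]
  have h3 : (c * d⁻¹)⁻¹ * f ∈ B := B.mul_mem (B.inv_mem (B.mul_mem hc (B.inv_mem hd))) hf
  refine h.xx_notMem ?_
  have e7 : (c * d⁻¹)⁻¹ * f = x⁻¹ := by
    have hcd : c * d⁻¹ = (x * x)⁻¹ * (a * (x * x)) := by rw [e3]; group
    have hff : f = (x * x)⁻¹ * (a * x) := by rw [e5]; group
    rw [hcd, hff]
    group
  rw [← h.inv_eq, ← e7]
  exact h3

theorem Data.card_B_le (h : Data H B g k x) : Nat.card B ≤ 2 * Nat.card (bcore H B) :=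
  card_le_two_mul_of_prod bcore_le fun _ ha _ hb ha' hb' => h.mul_mem_core ha ha' hb hb'

/-- For `k ≠ 0` the core is proper. -/
theorem Data.exists_outside (h : Data H B g k x) (hk : k ≠ 0) : ∃ a ∈ B, a ∉ bcore H B := by
  by_contra hc
  refine hk (h.k_eq_zero ?_)
  have : bcore H B = B := le_antisymm bcore_le fun a ha => by
    by_contra hn
    exact hc ⟨a, ha, hn⟩
  rw [← this]
  exact h.core_cj

/-- The conjugate data. -/
theorem Hyp.norm_inv (h : Hyp H B g k) : cj g⁻¹ B = B := by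
  conv_lhs => rw [← h.norm]
  rw [← cj_mul, inv_mul_cancel, cj_one]

end CfsgLib.Char.SuborbitThree
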