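import Cfsg.Agent.Lib.Char.SuborbitThree.Offender

/-!
# The self-paired case with all conjugate modules inside the cores
-/

set_option autoImplicit false
set_option linter.unusedSectionVars false

namespace CfsgLib.Char.SuborbitThree

open Subgroup

universe u

variable {G : Type u} [Group G] [Finite G] {H B : Subgroup G} {g : G} {k : ℕ} {x : G}

/-- The self-paired configuration. -/
structure Paired (H B : Subgroup G) (g : G) (k : ℕ) (x c z : G) : Prop extends Cons H B g k x where
  g2 : g * g ∈ H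
  cH : ∀ a ∈ H, a * c = c * a
  cZ : c ∈ zsub B
  cg : g * c * g⁻¹ = z
  zc : z ∉ csub B x
  gen : ∀ b ∈ B, b ∉ bcore H B → ∀ u ∈ vsub B x, u ∉ zsub B → b * u * b⁻¹ * u = z
  zZ : z ∈ zsub B
  inner : cj g (vsub B x) ≤ bcore H B

section

variable {c z : G}

theorem cj_eq_of_mk {K : Subgroup G} (hK : ∀ h ∈ H, cj h K = K) {a b : G}
    (hab : (a : G ⧸ H) = (b : G ⧸ H)) : cj a K = cj b K := by
  have hm := QuotientGroup.eq.1 hab
  rw [show b = a * (a⁻¹ * b) by group, cj_mul, hK _ hm]

/-- The module at a vertex. -/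
noncomputable def vAt (B : Subgroup G) (x : G) (u : G ⧸ H) : Subgroup G := cj u.out (vsub B x)

/-- The kernel at a vertex. -/
noncomputable def qAt (B : Subgroup G) (u : G ⧸ H) : Subgroup G := cj u.out (bcore H B)

/-- The central involution at a vertex. -/
noncomputable def cAt (c : G) (u : G ⧸ H) : G := u.out * c * u.out⁻¹

/-- The adjacency. -/
def Adj (H : Subgroup G) (g : G) (u w : G ⧸ H) : Prop :=
  ∃ a : G, u = (a : G ⧸ H) ∧ w = ((a * g : G) : G ⧸ H)

theorem Paired.vAt_mk (h : Paired H B g k x c z) (a : G) :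
    vAt B x (a : G ⧸ H) = cj a (vsub B x) :=
  cj_eq_of_mk (fun _ hh => h.cj_vsub hh) (QuotientGroup.out_eq' _)

theorem Paired.qAt_mk (_h : Paired H B g k x c z) (a : G) :
    qAt B (a : G ⧸ H) = cj a (bcore H B) :=
  cj_eq_of_mk (fun _ hh => cj_bcore hh) (QuotientGroup.out_eq' _)

theorem Paired.cAt_mk (h : Paired H B g k x c z) (a : G) :
    cAt c (a : G ⧸ H) = a * c * a⁻¹ := by
  have hm := QuotientGroup.eq.1 (QuotientGroup.out_eq' (a : G ⧸ H))
  set o := (a : G ⧸ H).out with ho
  have e := h.cH _ hm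
  unfold cAt
  rw [← ho]
  calc o * c * o⁻¹ = o * (c * (o⁻¹ * a)) * a⁻¹ := by group
    _ = o * ((o⁻¹ * a) * c) * a⁻¹ := by rw [e]
    _ = a * c * a⁻¹ := by group

theorem mk_smul (a b : G) : a • ((b : G) : G ⧸ H) = ((a * b : G) : G ⧸ H) := rfl

theorem fixes_iff (a e : G) : e • (a : G ⧸ H) = (a : G ⧸ H) ↔ e ∈ cj a H := by
  rw [mk_smul, eq_comm, QuotientGroup.eq, mem_cj, ← mul_assoc]

theorem adj_smul (t : G) {u w : G ⧸ H} (huw : Adj H g u w) : Adj H g (t • u) (t • w) := by
  obtain ⟨a, rfl, rfl⟩ := huw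
  exact ⟨t * a, rfl, by rw [mk_smul, mul_assoc]⟩

theorem Paired.adj_symm (h : Paired H B g k x c z) {u w : G ⧸ H} (huw : Adj H g u w) :
    Adj H g w u := by
  obtain ⟨a, rfl, rfl⟩ := huw
  refine ⟨a * g, rfl, QuotientGroup.eq.2 ?_⟩
  rw [show a⁻¹ * (a * g * g) = g * g by group]
  exact h.g2

theorem Paired.g_fix (h : Paired H B g k x c z) {b : G} (hb : b ∈ B) :
    ((b * g : G) : G ⧸ H) = (g : G) :=
  QuotientGroup.eq.2 (by
    rw [mul_inv_rev, mul_assoc]
    exact h.le (B.mul_mem (mem_cj.1 (h.norm.symm ▸ B.inv_mem hb) |> fun hh => by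
      simpa [mul_assoc] using hh) B.one_mem |> fun hh => by simpa [mul_assoc] using hh))

theorem Paired.edge_stab (h : Paired H B g k x c z) {e : G} (he : e ∈ H)
    (heg : e ∈ cj g H) : e ∈ B := by
  classical
  have hle : B ≤ H ⊓ cj g H := le_inf h.le (h.norm ▸ cj_mono h.le)
  have hne : H ⊓ cj g H ≠ H := by
    intro hh
    have hsub : H ≤ cj g H := fun y hy => (hh.symm ▸ hy : y ∈ H ⊓ cj g H).2
    have heq : cj g H = H := (Subgroup.eq_of_le_of_card_ge hsub (card_cj g H).le).symm
    have hbot := h.eq_bot_of_normalized le_rfl (fun a ha => cj_self ha) h.notMem heq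
    exact h.zsub_ne_bot (le_bot_iff.1 (hbot ▸ fun y hy => h.le hy.1))
  rcases h.coset he with hb | hb | hb
  · exact hb
  · refine absurd ?_ hne
    have hx : x ∈ H ⊓ cj g H := by
      simpa [mul_assoc] using mul_mem (⟨he, heg⟩ : e ∈ H ⊓ cj g H) (inv_mem (hle hb))
    refine le_antisymm inf_le_left fun y hy => ?_
    rcases h.coset hy with hy' | hy' | hy'
    · exact hle hy'
    · simpa [mul_assoc] using mul_mem hx (hle hy')
    · simpa [mul_assoc] using mul_mem (inv_mem hx) (hle hy')
  · refine absurd ?_ hne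
    have hx : x ∈ H ⊓ cj g H := by
      simpa [mul_assoc] using mul_mem (hle hb) (inv_mem (⟨he, heg⟩ : e ∈ H ⊓ cj g H))
    refine le_antisymm inf_le_left fun y hy => ?_
    rcases h.coset hy with hy' | hy' | hy'
    · exact hle hy'
    · simpa [mul_assoc] using mul_mem hx (hle hy')
    · simpa [mul_assoc] using mul_mem (inv_mem hx) (hle hy')

theorem Paired.nbrs_one (h : Paired H B g k x c z) {w : G ⧸ H} (hw : Adj H g ((1 : G) : G ⧸ H) w) :
    w = (g : G) ∨ w = ((x * g : G) : G ⧸ H) ∨ w = ((x⁻¹ * g : G) : G ⧸ H) := by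
  obtain ⟨a, ha, rfl⟩ := hw
  have haH : a ∈ H := by simpa using QuotientGroup.eq.1 ha
  rcases h.coset haH with hb | hb | hb
  · exact Or.inl (h.g_fix hb)
  · refine Or.inr (Or.inl ?_)
    have := congrArg (x • ·) (h.g_fix hb)
    simp only [mk_smul] at this
    rwa [show x * (x⁻¹ * a * g) = a * g by group] at this
  · refine Or.inr (Or.inr ?_)
    have := congrArg (x⁻¹ • ·) (h.g_fix hb)
    simp only [mk_smul] at this
    rwa [show x⁻¹ * (x * a * g) = a * g by group] at this

theorem Paired.adj_one (h : Paired H B g k x c z) :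
    Adj H g ((1 : G) : G ⧸ H) (g : G) ∧ Adj H g ((1 : G) : G ⧸ H) ((x * g : G) : G ⧸ H) ∧
      Adj H g ((1 : G) : G ⧸ H) ((x⁻¹ * g : G) : G ⧸ H) :=
  ⟨⟨1, rfl, by rw [one_mul]⟩, ⟨x, QuotientGroup.eq.2 (by simpa using h.memH), rfl⟩,
    ⟨x⁻¹, QuotientGroup.eq.2 (by simpa using h.memH), rfl⟩⟩

theorem Paired.vAt_le_qAt_nbr (h : Paired H B g k x c z) {u w : G ⧸ H} (huw : Adj H g u w) :
    vAt B x u ≤ qAt B w := by
  obtain ⟨a, rfl, rfl⟩ := h.adj_symm huw
  rw [h.vAt_mk, h.qAt_mk, cj_mul]
  exact cj_mono h.inner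

theorem Paired.vAt_le_qAt (h : Paired H B g k x c z) (u : G ⧸ H) : vAt B x u ≤ qAt B u :=
  cj_mono h.vsub_le

theorem Paired.qAt_fix (h : Paired H B g k x c z) {u : G ⧸ H} {e : G} (he : e ∈ qAt B u) :
    e • u = u ∧ ∀ w, Adj H g u w → e • w = w := by
  obtain ⟨a, rfl⟩ := QuotientGroup.mk_surjective u
  rw [h.qAt_mk] at he
  refine ⟨(fixes_iff a e).2 (cj_mono (bcore_le.trans h.le) he), ?_⟩
  intro w hw
  obtain ⟨b, hb, rfl⟩ := hw
  rw [← h.qAt_mk, hb, h.qAt_mk] at he
  rw [fixes_iff, cj_mul]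
  refine cj_mono ?_ he
  exact bcore_le.trans (h.norm ▸ cj_mono h.le)

/-- The action at a vertex of an element fixing an arc. -/
theorem Paired.arc_cases (h : Paired H B g k x c z) {u w : G ⧸ H} (huw : Adj H g u w) {e : G}
    (heu : e • u = u) (hew : e • w = w) :
    (∀ v ∈ vAt B x u, e * v * e⁻¹ * v = 1 ∨ e * v * e⁻¹ * v = cAt c w) ∧
      (e ∈ qAt B u ∨ ∀ n1 n2, Adj H g u n1 → Adj H g u n2 → n1 ≠ w → n2 ≠ w →
        n1 = n2 ∨ e • n1 = n2) := by
  obtain ⟨a, rfl, rfl⟩ := huw
  rw [fixes_iff, mem_cj] at heu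
  rw [fixes_iff, cj_mul, mem_cj] at hew
  set e0 := a⁻¹ * e * a with he0
  have hB := h.edge_stab heu hew
  constructor
  · intro v hv
    rw [h.vAt_mk, mem_cj] at hv
    rw [h.cAt_mk, show a * g * c * (a * g)⁻¹ = a * (g * c * g⁻¹) * a⁻¹ by group, h.cg]
    have key : e0 * (a⁻¹ * v * a) * e0⁻¹ * (a⁻¹ * v * a) = 1 ∨
        e0 * (a⁻¹ * v * a) * e0⁻¹ * (a⁻¹ * v * a) = z := by
      by_cases hec : e0 ∈ bcore H B
      · left
        rw [← h.core_comm _ hv _ hec, mul_inv_cancel_right, h.isEl_vsub _ hv]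
      by_cases hvz : a⁻¹ * v * a ∈ zsub B
      · left
        rw [hvz.2.2 _ hB, mul_inv_cancel_right, h.isEl_vsub _ hv]
      exact Or.inr (h.gen _ hB hec _ hv hvz)
    rcases key with hk | hk
    · left
      calc e * v * e⁻¹ * v = a * (e0 * (a⁻¹ * v * a) * e0⁻¹ * (a⁻¹ * v * a)) * a⁻¹ := by
            rw [he0]; group
        _ = 1 := by rw [hk]; group
    · right
      rw [← hk, he0]; group
  · by_cases hec : e0 ∈ bcore H B
    · exact Or.inl (by rw [h.qAt_mk, mem_cj]; exact hec)
    right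
    intro n1 n2 h1 h2 hn1 hn2
    have tr : ∀ n, Adj H g (a : G ⧸ H) n → n ≠ ((a * g : G) : G ⧸ H) →
        n = ((a * (x * g) : G) : G ⧸ H) ∨ n = ((a * (x⁻¹ * g) : G) : G ⧸ H) := by
      intro n hn hne
      have hn' := adj_smul a⁻¹ hn
      rw [mk_smul, inv_mul_cancel] at hn'
      have e1 : n = a • (a⁻¹ • n) := (smul_inv_smul a n).symm
      rcases h.nbrs_one hn' with e2 | e2 | e2 <;> rw [e2] at e1
      · exact absurd e1 hne
      · exact Or.inl e1
      · exact Or.inr e1
    obtain ⟨b, hb, he⟩ := h.swap hB hec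
    have hsw : e • ((a * (x * g) : G) : G ⧸ H) = ((a * (x⁻¹ * g) : G) : G ⧸ H) := by
      have := congrArg ((a * x⁻¹) • ·) (h.g_fix hb)
      simp only [mk_smul] at this
      rw [mk_smul, show e * (a * (x * g)) = a * (e0 * x) * g by rw [he0]; group, he, ← h.inv_eq]
      rw [show a * (x⁻¹ * b) * g = a * x⁻¹ * (b * g) by group, this,
        show a * x⁻¹ * g = a * (x⁻¹ * g) by group]
    have hsw' : e • ((a * (x⁻¹ * g) : G) : G ⧸ H) = ((a * (x * g) : G) : G ⧸ H) := by
      have h3 := tr (e • ((a * (x⁻¹ * g) : G) : G ⧸ H))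
      have hadj : Adj H g (a : G ⧸ H) (e • ((a * (x⁻¹ * g) : G) : G ⧸ H)) := by
        have := adj_smul e (adj_smul a h.adj_one.2.2)
        rw [mk_smul a 1, mul_one, mk_smul a] at this
        rwa [show e • (a : G ⧸ H) = (a : G ⧸ H) by rw [fixes_iff, mem_cj]; exact heu] at this
      have hfix : e • ((a * g : G) : G ⧸ H) = ((a * g : G) : G ⧸ H) := by
        rw [fixes_iff, cj_mul, mem_cj]; exact hew
      have hxg : ∀ p q : G, (p⁻¹ * q) ∉ B → p⁻¹ * q ∈ H →
          ((a * (p * g) : G) : G ⧸ H) ≠ ((a * (q * g) : G) : G ⧸ H) := by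
        intro p q hpq hH heq
        refine hpq (h.edge_stab hH (mem_cj.2 ?_))
        have := QuotientGroup.eq.1 heq
        rwa [show (a * (p * g))⁻¹ * (a * (q * g)) = g⁻¹ * (p⁻¹ * q) * g by group] at this
      rcases h3 hadj (fun h4 => by
        have := smul_left_cancel e (h4.trans hfix.symm)
        rw [show a * g = a * (1 * g) by rw [one_mul]] at this
        exact hxg x⁻¹ 1 (by simpa using h.three_notMem h.order) (by simpa using h.memH) this)
        with h5 | h5
      · exact h5
      · exfalso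
        have := smul_left_cancel e (hsw.trans h5.symm)
        refine hxg x x⁻¹ ?_ (H.mul_mem (H.inv_mem h.memH) (H.inv_mem h.memH)) this
        intro hm
        exact h.xx_notMem (by simpa using B.inv_mem hm)
    rcases tr n1 h1 hn1 with e1 | e1 <;> rcases tr n2 h2 hn2 with e2 | e2 <;> subst e1 e2
    · exact Or.inl rfl
    · exact Or.inr hsw
    · exact Or.inr hsw'
    · exact Or.inl rfl

theorem Paired.c_ne (h : Paired H B g k x c z) {u w : G ⧸ H} (huw : Adj H g u w) :
    cAt c u ≠ cAt c w := by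
  obtain ⟨a, rfl, rfl⟩ := huw
  rw [h.cAt_mk, h.cAt_mk, show a * g * c * (a * g)⁻¹ = a * (g * c * g⁻¹) * a⁻¹ by group, h.cg]
  intro e
  have : c = z := mul_left_cancel (mul_right_cancel e)
  exact h.zc (this ▸ ⟨h.cZ, mem_centralizer_singleton_iff.2 (h.cH x h.memH).symm⟩)

theorem Paired.c_inj (h : Paired H B g k x c z) {u n1 n2 : G ⧸ H} (h1 : Adj H g u n1)
    (h2 : Adj H g u n2) (e : cAt c n1 = cAt c n2) : n1 = n2 := by
  obtain ⟨a, rfl, rfl⟩ := h1
  have hn' := adj_smul a⁻¹ h2
  rw [mk_smul, inv_mul_cancel] at hn'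
  have e1 : n2 = a • (a⁻¹ • n2) := (smul_inv_smul a n2).symm
  rcases h.nbrs_one hn' with e2 | e2 | e2 <;> rw [e2] at e1 <;> subst e1
  · rfl
  all_goals exfalso
  all_goals rw [mk_smul, h.cAt_mk, h.cAt_mk,
    show a * g * c * (a * g)⁻¹ = a * (g * c * g⁻¹) * a⁻¹ by group] at e
  · rw [show a * (x * g) * c * (a * (x * g))⁻¹ = a * (x * (g * c * g⁻¹) * x⁻¹) * a⁻¹ by group,
      h.cg] at e
    refine h.zc ⟨h.zZ, mem_centralizer_singleton_iff.2 ?_⟩
    exact (eq_mul_inv_iff_mul_eq.1 (mul_left_cancel (mul_right_cancel e)))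
  · rw [show a * (x⁻¹ * g) * c * (a * (x⁻¹ * g))⁻¹ = a * (x⁻¹ * (g * c * g⁻¹) * x) * a⁻¹ by group,
      h.cg] at e
    refine h.zc ⟨h.zZ, mem_centralizer_singleton_iff.2 ?_⟩
    have e' := mul_left_cancel (mul_right_cancel e)
    conv_rhs => rw [e']
    group

/-- Walks. -/
def IsWalk (H : Subgroup G) (g : G) (n : ℕ) (f : ℕ → G ⧸ H) : Prop :=
  ∀ i < n, Adj H g (f i) (f (i + 1))

/-- Walks without backtracking. -/
def IsPath (H : Subgroup G) (g : G) (n : ℕ) (f : ℕ → G ⧸ H) : Prop :=
  IsWalk H g n f ∧ ∀ i, i + 2 ≤ n → f (i + 2) ≠ f i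

theorem exists_walk (h : Paired H B g k x c z) (a : G) :
    ∃ n f, IsWalk H g n f ∧ f 0 = ((1 : G) : G ⧸ H) ∧ f n = (a : G ⧸ H) := by
  let K : Subgroup G :=
    { carrier := {a | ∃ n f, IsWalk H g n f ∧ f 0 = ((1 : G) : G ⧸ H) ∧ f n = (a : G ⧸ H)}
      one_mem' := ⟨0, fun _ => ((1 : G) : G ⧸ H), fun i hi => absurd hi (Nat.not_lt_zero i), rfl, rfl⟩
      mul_mem' := by
        rintro a b ⟨n, f, hf, hf0, hfn⟩ ⟨m, f', hf', hf'0, hf'm⟩
        refine ⟨n + m, fun i => if i ≤ n then f i else a • f' (i - n), ?_, by simp [hf0], ?_⟩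
        · intro i hi
          show Adj H g (if i ≤ n then f i else a • f' (i - n))
            (if i + 1 ≤ n then f (i + 1) else a • f' (i + 1 - n))
          rcases lt_trichotomy i n with hlt | rfl | hlt
          · rw [if_pos hlt.le, if_pos (show i + 1 ≤ n by omega)]; exact hf i hlt
          · rw [if_pos le_rfl, if_neg (by omega), hfn, show i + 1 - i = 1 by omega]
            have := adj_smul a (hf' 0 (by omega))
            rwa [hf'0, mk_smul, mul_one] at this
          · rw [if_neg (by omega), if_neg (by omega), show i + 1 - n = i - n + 1 by omega]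
            exact adj_smul a (hf' _ (by omega))
        · rcases Nat.eq_zero_or_pos m with rfl | hm
          · rw [hf'0] at hf'm
            simp only [Nat.add_zero, le_refl, if_true, hfn]
            refine QuotientGroup.eq.2 ?_
            have := QuotientGroup.eq.1 hf'm
            simpa [mul_assoc] using this
          · simp only [if_neg (show ¬ n + m ≤ n by omega), show n + m - n = m by omega, hf'm,
              mk_smul]
      inv_mem' := by
        rintro a ⟨n, f, hf, hf0, hfn⟩
        refine ⟨n, fun i => a⁻¹ • f (n - i), fun i hi => ?_, ?_, ?_⟩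
        · have := h.adj_symm (adj_smul a⁻¹ (hf (n - i - 1) (by omega)))
          rwa [show n - i - 1 + 1 = n - i by omega, show n - i - 1 = n - (i + 1) by omega] at this
        · simp [hfn, mk_smul]
        · simp [hf0, mk_smul] }
  have hH : H ≤ K := fun a ha => ⟨0, fun _ => ((1 : G) : G ⧸ H),
    fun i hi => absurd hi (Nat.not_lt_zero i), rfl, QuotientGroup.eq.2 (by simpa using ha)⟩
  have hg : g ∈ K := ⟨1, fun i => if i = 0 then ((1 : G) : G ⧸ H) else (g : G ⧸ H),
    fun i hi => by obtain rfl : i = 0 := (by omega); simpa using h.adj_one.1, by simp, by simp⟩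
  exact (h.toHyp.eq_top_of hH hg h.notMem ▸ mem_top a : a ∈ K)

theorem Paired.false (h : Paired H B g k x c z) : False := by
  classical
  -- a critical walk
  have hex : ∃ n, ∃ f, IsWalk H g n f ∧ ¬ vAt B x (f 0) ≤ qAt B (f n) := by
    by_contra hc
    have hall : ∀ a : G, vsub B x ≤ cj a (bcore H B) := fun a => by
      obtain ⟨n, f, hf, hf0, hfn⟩ := exists_walk h a
      have : vAt B x (f 0) ≤ qAt B (f n) := by
        by_contra hn
        exact hc ⟨n, f, hf, hn⟩
      rwa [hf0, hfn, h.vAt_mk, h.qAt_mk, cj_one] at this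
    let N : Subgroup G := ⨅ a : G, cj a H
    have hN : N.Normal := ⟨fun y hy b => by
      simp only [N, mem_iInf] at hy ⊢
      intro a
      have := hy (b⁻¹ * a)
      rw [mem_cj] at this ⊢
      rwa [show a⁻¹ * (b * y * b⁻¹) * a = (b⁻¹ * a)⁻¹ * y * (b⁻¹ * a) by group]⟩
    have hbot := h.core N hN ((iInf_le _ 1).trans_eq (cj_one H))
    refine h.zsub_ne_bot (le_bot_iff.1 ?_)
    rw [← hbot]
    exact h.zsub_le_vsub.trans (le_iInf fun a =>
      (hall a).trans (cj_mono (bcore_le.trans h.le)))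
  set b := Nat.find hex with hb
  obtain ⟨p, hp, hpc⟩ := Nat.find_spec hex
  rw [← hb] at hp hpc
  have hmin : ∀ n < b, ∀ f, IsWalk H g n f → vAt B x (f 0) ≤ qAt B (f n) := fun n hn f hf => by
    by_contra hc
    exact Nat.find_min hex hn ⟨f, hf, hc⟩
  -- distance fixing
  have hfix : ∀ n ≤ b, ∀ f, IsWalk H g n f → ∀ v ∈ vAt B x (f 0), v • f n = f n := by
    intro n hn f hf v hv
    rcases Nat.eq_zero_or_pos n with rfl | hpos
    · exact (h.qAt_fix (h.vAt_le_qAt _ hv)).1
    · have h1 := hmin (n - 1) (by omega) f (fun i hi => hf i (by omega)) hv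
      have := (h.qAt_fix h1).2 _ (hf (n - 1) (by omega))
      rwa [show n - 1 + 1 = n by omega] at this
  have hb2 : 2 ≤ b := by
    by_contra hc
    interval_cases b
    · exact hpc (h.vAt_le_qAt _)
    · exact hpc (h.vAt_le_qAt_nbr (hp 0 (by norm_num)))
  have hpath : IsPath H g b p := by
    refine ⟨hp, fun i hi e => hpc ?_⟩
    have := hmin (b - 2) (by omega) (fun j => if j ≤ i then p j else p (j + 2)) (fun j hj => by
      rcases lt_trichotomy j i with hlt | rfl | hlt
      · simp only [if_pos hlt.le, if_pos (show j + 1 ≤ i by omega)]; exact hp j (by omega)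
      · simp only [if_pos le_rfl, if_neg (show ¬ j + 1 ≤ j by omega)]
        rw [← e, show j + 1 + 2 = j + 2 + 1 by omega]
        exact hp (j + 2) (by omega)
      · simp only [if_neg (show ¬ j ≤ i by omega), if_neg (show ¬ j + 1 ≤ i by omega)]
        rw [show j + 1 + 2 = j + 2 + 1 by omega]
        exact hp (j + 2) (by omega))
    simp only [Nat.zero_le, if_true] at this
    split_ifs at this with h1
    · obtain rfl : i = b - 2 := by omega
      rwa [← e, show b - 2 + 2 = b by omega] at this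
    · rwa [show b - 2 + 2 = b by omega] at this
  -- a moving element of the first module
  obtain ⟨v, hv, hvq⟩ := SetLike.not_le_iff_exists.1 hpc
  have hvfix : ∀ i ≤ b, v • p i = p i := fun i hi => hfix i hi p (fun j hj => hp j (by omega)) v hv
  have hadjb : Adj H g (p b) (p (b - 1)) := by
    have := h.adj_symm (hp (b - 1) (by omega))
    rwa [show b - 1 + 1 = b by omega] at this
  have hvswap : ∀ n1 n2, Adj H g (p b) n1 → Adj H g (p b) n2 → n1 ≠ p (b - 1) → n2 ≠ p (b - 1) →
      n1 = n2 ∨ v • n1 = n2 :=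
    ((h.arc_cases hadjb (hvfix b le_rfl) (hvfix (b - 1) (by omega))).2).resolve_left hvq
  -- every vertex has a further neighbour
  have hthird : ∀ u w : G ⧸ H, ∃ n, Adj H g u n ∧ n ≠ w := by
    intro u w
    obtain ⟨a, rfl⟩ := QuotientGroup.mk_surjective u
    have h1 := adj_smul a h.adj_one.1
    have h2 := adj_smul a h.adj_one.2.1
    rw [mk_smul a 1, mul_one, mk_smul] at h1 h2
    by_contra hc
    have hall : ∀ n, Adj H g (a : G ⧸ H) n → n = w := fun n hn => by
      by_contra hne
      exact hc ⟨n, hn, hne⟩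
    have e := QuotientGroup.eq.1 ((hall _ h1).trans (hall _ h2).symm)
    rw [show (a * g)⁻¹ * (a * (x * g)) = g⁻¹ * x * g by group] at e
    exact h.three_notMem h.order (h.edge_stab h.memH (mem_cj.2 e))
  obtain ⟨nx, hnx, hnxne⟩ := hthird (p b) (p (b - 1))
  -- transitivity on paths
  have htrans : ∀ L ≤ b + 1, ∀ f f', IsPath H g L f → IsPath H g L f' →
      ∃ t : G, ∀ i ≤ L, t • f i = f' i := by
    intro L
    induction L with
    | zero =>
      intro _ f f' _ _
      obtain ⟨a, ha⟩ := QuotientGroup.mk_surjective (f 0)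
      obtain ⟨a', ha'⟩ := QuotientGroup.mk_surjective (f' 0)
      refine ⟨a' * a⁻¹, fun i hi => ?_⟩
      obtain rfl : i = 0 := by omega
      rw [← ha, ← ha', mk_smul, inv_mul_cancel_right]
    | succ L ih =>
      intro hL f f' hf hf'
      rcases Nat.eq_zero_or_pos L with rfl | hLpos
      · obtain ⟨a, ha, ha1⟩ := hf.1 0 (by omega)
        obtain ⟨a', ha', ha1'⟩ := hf'.1 0 (by omega)
        rw [Nat.zero_add] at ha1 ha1'
        refine ⟨a' * a⁻¹, fun i hi => ?_⟩
        interval_cases i
        · rw [ha, ha', mk_smul, inv_mul_cancel_right]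
        · rw [ha1, ha1', mk_smul]
          congr 1
          group
      -- move both to the end of the critical path
      suffices key : ∀ f, IsPath H g (L + 1) f → ∃ t : G,
          (∀ i ≤ L, t • f i = p (b - L + i)) ∧ t • f (L + 1) = nx by
        obtain ⟨t, ht, ht1⟩ := key f hf
        obtain ⟨t', ht', ht1'⟩ := key f' hf'
        refine ⟨t'⁻¹ * t, fun i hi => ?_⟩
        rw [mul_smul, inv_smul_eq_iff]
        rcases Nat.lt_or_ge i (L + 1) with hlt | hge
        · rw [ht i (by omega), ht' i (by omega)]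
        · obtain rfl : i = L + 1 := by omega
          rw [ht1, ht1']
      intro f hf
      obtain ⟨t, ht⟩ := ih (by omega) f (fun i => p (b - L + i))
        ⟨fun i hi => hf.1 i (by omega), fun i hi => hf.2 i (by omega)⟩
        ⟨fun i hi => by
          have := hp (b - L + i) (by omega)
          rwa [show b - L + i + 1 = b - L + (i + 1) by omega] at this,
        fun i hi => by
          have := hpath.2 (b - L + i) (by omega)
          rwa [show b - L + i + 2 = b - L + (i + 2) by omega] at this⟩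
      have e1 : t • f L = p b := by rw [ht L le_rfl]; congr 1; omega
      have e2 : t • f (L - 1) = p (b - 1) := by rw [ht (L - 1) (by omega)]; congr 1; omega
      have hadj : Adj H g (p b) (t • f (L + 1)) := e1 ▸ adj_smul t (hf.1 L (by omega))
      have hne : t • f (L + 1) ≠ p (b - 1) := fun e => by
        have := smul_left_cancel t (e.trans e2.symm)
        have h2 := hf.2 (L - 1) (by omega)
        rw [show L - 1 + 2 = L + 1 by omega] at h2
        exact h2 this
      rcases hvswap _ _ hadj hnx hne hnxne with e | e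
      · exact ⟨t, ht, e⟩
      · refine ⟨v * t, fun i hi => ?_, by rw [mul_smul, e]⟩
        rw [mul_smul, ht i hi]
        exact hvfix _ (by omega)
  have hcinv : ∀ w : G ⧸ H, (cAt c w)⁻¹ = cAt c w := fun w => by
    obtain ⟨a, rfl⟩ := QuotientGroup.mk_surjective w
    rw [h.cAt_mk, mul_inv_rev, mul_inv_rev, inv_inv, inv_eq_of_mul_eq_one_right h.cZ.2.1, mul_assoc]
  have hvinv : ∀ u : G ⧸ H, ∀ w ∈ vAt B x u, w * w = 1 := fun u w hw => by
    obtain ⟨a, rfl⟩ := QuotientGroup.mk_surjective u
    rw [h.vAt_mk] at hw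
    obtain ⟨w0, hw0, rfl⟩ := hw
    rw [← map_mul, h.isEl_vsub w0 hw0, map_one]
  have hkill : ∀ u : G ⧸ H, ∀ e : G, e • u = u → (∀ w ∈ vAt B x u, e * w = w * e) → e ∈ qAt B u := by
    intro u e heu hcomm
    obtain ⟨a, rfl⟩ := QuotientGroup.mk_surjective u
    rw [fixes_iff, mem_cj] at heu
    rw [h.qAt_mk, mem_cj]
    refine h.mem_core_of_comm heu fun y hy => ?_
    have := hcomm (a * y * a⁻¹) (h.vAt_mk a ▸ conj_mem_cj hy)
    calc a⁻¹ * e * a * y = a⁻¹ * (e * (a * y * a⁻¹)) * a := by group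
      _ = a⁻¹ * (a * y * a⁻¹ * e) * a := by rw [this]
      _ = y * (a⁻¹ * e * a) := by group
  rcases Nat.lt_or_ge b 3 with hb3 | hb3
  · -- distance two
    have hb' : b = 2 := by omega
    have hcrit : ∀ f, IsPath H g 2 f → ¬ vAt B x (f 0) ≤ qAt B (f 2) := by
      intro f hf hle
      obtain ⟨t, ht⟩ := htrans 2 (by omega) p f (hb' ▸ hpath) hf
      refine hvq ?_
      have ht0 := ht 0 (by omega)
      have ht2 := ht 2 le_rfl
      obtain ⟨a, ha⟩ := QuotientGroup.mk_surjective (p 0)
      obtain ⟨a', ha'⟩ := QuotientGroup.mk_surjective (p 2)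
      rw [← ha, mk_smul] at ht0
      rw [← ha', mk_smul] at ht2
      rw [← ha, h.vAt_mk] at hv
      rw [hb', ← ha', h.qAt_mk]
      rw [← ht0, ← ht2, h.vAt_mk, h.qAt_mk, cj_mul, cj_mul] at hle
      have h1 := hle (conj_mem_cj hv)
      rw [mem_cj] at h1
      rwa [show t⁻¹ * (t * v * t⁻¹) * t = v by group] at h1
    let p2 : (G ⧸ H) → (G ⧸ H) → (G ⧸ H) → ℕ → G ⧸ H :=
      fun u m w i => if i = 0 then u else if i = 1 then m else w
    have hp2 : ∀ u m w, Adj H g u m → Adj H g m w → w ≠ u → IsPath H g 2 (p2 u m w) := by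
      intro u m w h1 h2 hne
      refine ⟨fun i hi => by interval_cases i <;> simpa [p2], fun i hi => ?_⟩
      obtain rfl : i = 0 := by omega
      simpa [p2] using hne
    have hcrit' : ∀ u m w, Adj H g u m → Adj H g m w → w ≠ u → ¬ vAt B x u ≤ qAt B w :=
      fun u m w h1 h2 hne => by simpa [p2] using hcrit _ (hp2 u m w h1 h2 hne)
    set A : G ⧸ H := ((1 : G) : G ⧸ H) with hA
    set N : G ⧸ H := (g : G ⧸ H) with hN
    set N1 : G ⧸ H := ((x * g : G) : G ⧸ H) with hN1
    set N2 : G ⧸ H := ((x⁻¹ * g : G) : G ⧸ H) with hN2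
    obtain ⟨aN, aN1, aN2⟩ := h.adj_one
    have key : ∀ p q : G, p⁻¹ * q ∈ H → p⁻¹ * q ∉ B →
        ((p * g : G) : G ⧸ H) ≠ ((q * g : G) : G ⧸ H) := by
      intro p q hH hB heq
      refine hB (h.edge_stab hH (mem_cj.2 ?_))
      have := QuotientGroup.eq.1 heq
      rwa [show (p * g)⁻¹ * (q * g) = g⁻¹ * (p⁻¹ * q) * g by group] at this
    have hx1 : x⁻¹ ∉ B := fun hm => h.three_notMem h.order (by simpa using B.inv_mem hm)
    have n01 : N1 ≠ N := by
      have := key x 1 (by simpa using h.memH) (by simpa using hx1)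
      simpa [hN, hN1] using this
    have n02 : N2 ≠ N := by
      have := key x⁻¹ 1 (by simpa using h.memH) (by simpa using h.three_notMem h.order)
      simpa [hN, hN2] using this
    have n12 : N1 ≠ N2 := key x x⁻¹ (H.mul_mem (H.inv_mem h.memH) (H.inv_mem h.memH)) fun hm =>
      h.xx_notMem (by simpa using B.inv_mem hm)
    obtain ⟨M, hM, hMA⟩ := hthird N A
    -- an element of the module at `N1` outside two kernels
    obtain ⟨v, hv, hvN, hvN2⟩ : ∃ v ∈ vAt B x N1, v ∉ qAt B N ∧ v ∉ qAt B N2 := by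
      obtain ⟨v1, hv1, hv1q⟩ := SetLike.not_le_iff_exists.1
        (hcrit' N1 A N (h.adj_symm aN1) aN n01.symm)
      obtain ⟨v2, hv2, hv2q⟩ := SetLike.not_le_iff_exists.1
        (hcrit' N1 A N2 (h.adj_symm aN1) aN2 n12.symm)
      by_cases e1 : v1 ∈ qAt B N2
      · by_cases e2 : v2 ∈ qAt B N
        · exact ⟨v1 * v2, mul_mem hv1 hv2, fun e => hv1q ((mul_mem_cancel_right e2).1 e),
            fun e => hv2q ((mul_mem_cancel_left e1).1 e)⟩
        · exact ⟨v2, hv2, e2, hv2q⟩
      · exact ⟨v1, hv1, hv1q, e1⟩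
    have hvA : v ∈ qAt B A := h.vAt_le_qAt_nbr (h.adj_symm aN1) hv
    have hvN' : v • N = N := (h.qAt_fix hvA).2 _ aN
    have hvA' : v • A = A := (h.qAt_fix hvA).1
    obtain ⟨v', hv', hv'A⟩ := SetLike.not_le_iff_exists.1
      (hcrit' M N A (h.adj_symm hM) (h.adj_symm aN) hMA.symm)
    have hv'N : v' ∈ qAt B N := h.vAt_le_qAt_nbr (h.adj_symm hM) hv'
    have hv'N' : v' • N = N := (h.qAt_fix hv'N).1
    have hv'A' : v' • A = A := (h.qAt_fix hv'N).2 _ (h.adj_symm aN)
    have hsw : v' • N1 = N2 := by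
      rcases (h.arc_cases aN hv'A' hv'N').2 with e | e
      · exact absurd e hv'A
      · exact (e N1 N2 aN1 aN2 n01 n02).resolve_left n12
    obtain ⟨M', hM', hMA'⟩ : ∃ M', v • M = M' ∧ M' ≠ M := by
      refine ⟨v • M, rfl, fun e => ?_⟩
      rcases (h.arc_cases (h.adj_symm aN) hvN' hvA').2 with e' | e'
      · exact hvN e'
      · -- all further neighbours would coincide
        obtain ⟨a, ha⟩ : ∃ a : G, N = (a : G ⧸ H) := ⟨g, rfl⟩
        have b1 := adj_smul g h.adj_one.1
        have b2 := adj_smul g h.adj_one.2.1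
        have b3 := adj_smul g h.adj_one.2.2
        rw [mk_smul g 1, mul_one, mk_smul] at b1 b2 b3
        have hone : ∀ n, Adj H g N n → n ≠ A → n = M := fun n hn hne =>
          (e' M n hM hn hMA hne).elim Eq.symm fun e2 => e2.symm.trans e
        have gA : ((g * g : G) : G ⧸ H) = A := (QuotientGroup.eq.2 (by simpa using h.g2) : A = _).symm
        have hne2 : ((g * (x * g) : G) : G ⧸ H) ≠ A := fun e3 => n01 (by
          have := congrArg (g⁻¹ • ·) (e3.trans gA.symm)
          simpa [mk_smul, hN1, hN] using this)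
        have hne3 : ((g * (x⁻¹ * g) : G) : G ⧸ H) ≠ A := fun e3 => n02 (by
          have := congrArg (g⁻¹ • ·) (e3.trans gA.symm)
          simpa [mk_smul, hN2, hN] using this)
        refine n12 ?_
        have := congrArg (g⁻¹ • ·) ((hone _ b2 hne2).trans (hone _ b3 hne3).symm)
        simpa [mk_smul, hN1, hN2] using this
    -- the commutator square seen from the two sides
    have key2 : ∀ (P P1 P2 : G ⧸ H) (s s' : G), Adj H g P P1 → Adj H g P P2 →
        s ∈ vAt B x P1 → s ∉ qAt B P2 → s • P = P → s' • P = P → s' • P1 = P2 →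
        s' * s' = 1 → (s * s' * (s * s')) * (s * s' * (s * s')) = cAt c P := by
      intro P P1 P2 s s' hP1 hP2 hs hs2 hsP hs'P hsw hs'i
      have hsP1 : s • P1 = P1 := (h.qAt_fix (h.vAt_le_qAt _ hs)).1
      have hsP2 : s • P2 = P2 := (h.qAt_fix (h.vAt_le_qAt_nbr (h.adj_symm hP1) hs)).2 _ hP2
      obtain ⟨s2, hs2def⟩ : ∃ w, w = s' * s * s'⁻¹ := ⟨_, rfl⟩
      obtain ⟨a, ha, ha2⟩ := h.adj_symm hP1
      have hs2m : s2 ∈ vAt B x P2 := by
        rw [← hsw, ha, mk_smul, h.vAt_mk, cj_mul]
        rw [ha, h.vAt_mk] at hs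
        exact hs2def ▸ conj_mem_cj hs
      have hcomm : s * s2 * s⁻¹ * s2 = cAt c P := by
        rcases ((h.arc_cases (h.adj_symm hP2) hsP2 hsP).1 s2 hs2m) with e | e
        swap
        · exact e
        exfalso
        -- `s` would centralize the module at `P2`
        have hs22 : s2 * s2 = 1 := hvinv P2 s2 hs2m
        have hc2 : s * s2 = s2 * s := by
          have := eq_inv_of_mul_eq_one_left e
          rw [inv_eq_of_mul_eq_one_right hs22] at this
          exact mul_inv_eq_iff_eq_mul.1 this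
        refine hs2 (hkill P2 s hsP2 fun y hy => ?_)
        -- the common part lies at `P`
        obtain ⟨a2, ha2', ha22⟩ := h.adj_symm hP2
        have hzedge : ∀ y ∈ cj a2 (zsub B), s * y = y * s := by
          intro y hy
          have hin : y ∈ vAt B x P := by
            rw [ha22, h.vAt_mk, cj_mul]
            refine cj_mono ?_ hy
            rw [← cj_zsub h.norm]
            exact cj_mono h.zsub_le_vsub
          have hsq : s ∈ qAt B P := h.vAt_le_qAt_nbr (h.adj_symm hP1) hs
          rw [ha22, h.vAt_mk, mem_cj] at hin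
          rw [ha22, h.qAt_mk, mem_cj] at hsq
          have := h.core_comm _ hin _ hsq
          calc s * y = (a2 * g) * (((a2 * g)⁻¹ * s * (a2 * g)) * ((a2 * g)⁻¹ * y * (a2 * g))) *
                (a2 * g)⁻¹ := by group
            _ = y * s := by rw [← this]; group
        have hs2Z : s2 ∉ cj a2 (zsub B) := by
          intro hz
          -- then `s2` and `s` lie in the module at `P`
          have hin : s2 ∈ vAt B x P := by
            rw [ha22, h.vAt_mk, cj_mul]
            refine cj_mono ?_ hz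
            rw [← cj_zsub h.norm]
            exact cj_mono h.zsub_le_vsub
          have hsP' : s ∈ vAt B x P := by
            obtain ⟨a3, ha3⟩ := QuotientGroup.mk_surjective P
            rw [← ha3, h.vAt_mk, mem_cj] at hin ⊢
            have hs'a : a3⁻¹ * s' * a3 ∈ H := by
              have := (fixes_iff a3 s').1 (ha3 ▸ hs'P)
              rwa [mem_cj] at this
            have := (h.cj_vsub hs'a).symm ▸ hin
            rw [mem_cj] at this
            simpa [hs2def, mul_assoc] using this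
          exact hs2 (h.vAt_le_qAt_nbr hP2 hsP')
        rw [ha2', h.vAt_mk, mem_cj] at hy hs2m
        by_cases hyz : a2⁻¹ * y * a2 ∈ zsub B
        · exact hzedge y (mem_cj.2 hyz)
        · have hm := h.mul_mem_zsub hs2m (fun hz => hs2Z (mem_cj.2 hz)) hy hyz
          have hm' : s2 * y ∈ cj a2 (zsub B) := by
            rw [mem_cj]; convert hm using 1; group
          have e3 := hzedge _ hm'
          rw [← mul_assoc, hc2, mul_assoc, mul_assoc] at e3
          exact mul_left_cancel e3
      rw [← hcomm, hs2def, inv_eq_of_mul_eq_one_right hs'i,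
        inv_eq_of_mul_eq_one_right (hvinv P1 s hs)]
      group
    have hv'i : v' * v' = 1 := hvinv M v' hv'
    have hvi : v * v = 1 := hvinv N1 v hv
    have hM'adj : Adj H g N M' := by
      have := adj_smul v hM
      rwa [hvN', hM'] at this
    have hvv' : v' ∉ qAt B M' := fun hq => by
      -- `v'` would stay inside the kernel at the moved vertex
      have hne : M' ≠ M := hMA'
      obtain ⟨v1, hv1, hv1q⟩ := SetLike.not_le_iff_exists.1
        (hcrit' M N M' (h.adj_symm hM) hM'adj hne)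
      obtain ⟨a, ha, ha'⟩ := h.adj_symm hM
      rw [ha, h.vAt_mk, mem_cj] at hv1 hv'
      have hzle : ∀ y, a⁻¹ * y * a ∈ zsub B → y ∈ qAt B A ∧ y ∈ qAt B M' := by
        intro y hy
        have hin : y ∈ vAt B x N := by
          rw [ha', h.vAt_mk, mem_cj]
          have : a⁻¹ * y * a ∈ cj g (vsub B x) := by
            refine (cj_mono h.zsub_le_vsub) ?_
            rw [cj_zsub h.norm]
            exact hy
          rw [mem_cj] at this
          convert this using 1
          group
        exact ⟨h.vAt_le_qAt_nbr (h.adj_symm aN) hin, h.vAt_le_qAt_nbr hM'adj hin⟩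
      by_cases hz1 : a⁻¹ * v1 * a ∈ zsub B
      · exact hv1q (hzle _ hz1).2
      by_cases hz2 : a⁻¹ * v' * a ∈ zsub B
      · exact hv'A (hzle _ hz2).1
      have hm := h.mul_mem_zsub hv' hz2 hv1 hz1
      have : a⁻¹ * (v' * v1) * a ∈ zsub B := by convert hm using 1; group
      exact hv1q ((mul_mem_cancel_left hq).1 (hzle _ this).2)
    have e1 := key2 A N1 N2 v v' aN1 aN2 hv hvN2 hvA' hv'A' hsw hv'i
    have e2 := key2 N M M' v' v hM hM'adj hv' hvv' hv'N' hvN' hM' hvi
    refine h.c_ne aN ?_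
    rw [← hcinv N, ← e1, ← e2]
    simp only [mul_inv_rev, inv_eq_of_mul_eq_one_right hvi, inv_eq_of_mul_eq_one_right hv'i]
  · -- larger distance
    obtain ⟨v', hv', hne⟩ : ∃ v' ∈ vAt B x (p b), v * v' ≠ v' * v := by
      by_contra hc
      refine hvq (hkill _ v (hvfix b le_rfl) fun w hw => ?_)
      by_contra hn
      exact hc ⟨w, hw, hn⟩
    have hrev : IsWalk H g b (fun i => p (b - i)) := fun i hi => by
      have := h.adj_symm (hp (b - (i + 1)) (by omega))
      rwa [show b - (i + 1) + 1 = b - i by omega] at this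
    have hv'fix : ∀ i ≤ b, v' • p i = p i := fun i hi => by
      have := hfix (b - i) (by omega) (fun j => p (b - j)) (fun j hj => hrev j (by omega)) v'
        (by simpa using hv')
      rwa [show b - (b - i) = i by omega] at this
    have hvv : v * v = 1 := hvinv _ v hv
    have hv'v : v' * v' = 1 := hvinv _ v' hv'
    have c1 : v' * v * v'⁻¹ * v = cAt c (p 1) := by
      rcases (h.arc_cases (hp 0 (by omega)) (hv'fix 0 (by omega)) (hv'fix 1 (by omega))).1 v hv
        with e | e
      · refine absurd ?_ hne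
        have := eq_inv_of_mul_eq_one_left e
        rw [inv_eq_of_mul_eq_one_right hvv] at this
        exact (mul_inv_eq_iff_eq_mul.1 this).symm
      · exact e
    have c2 : v * v' * v⁻¹ * v' = cAt c (p (b - 1)) := by
      rcases (h.arc_cases hadjb (hvfix b le_rfl) (hvfix (b - 1) (by omega))).1 v' hv' with e | e
      · refine absurd ?_ hne
        have := eq_inv_of_mul_eq_one_left e
        rw [inv_eq_of_mul_eq_one_right hv'v] at this
        exact mul_inv_eq_iff_eq_mul.1 this
      · exact e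
    have hceq : cAt c (p 1) = cAt c (p (b - 1)) := by
      rw [← hcinv (p 1), ← c1, ← c2]
      simp only [mul_inv_rev, inv_eq_of_mul_eq_one_right hvv, inv_eq_of_mul_eq_one_right hv'v,
        mul_assoc]
    rcases eq_or_lt_of_le hb3 with hb3' | hb4
    · refine h.c_ne (hp 1 (by omega)) ?_
      rw [hceq]; congr 2; omega
    -- branch at the last vertex
    obtain ⟨a, ha⟩ := QuotientGroup.mk_surjective (p (b - 2))
    have hlast : Adj H g (p (b - 2)) (p (b - 1)) := by
      have := hp (b - 2) (by omega)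
      rwa [show b - 2 + 1 = b - 1 by omega] at this
    obtain ⟨q, hq, hq1, hq2⟩ : ∃ q, Adj H g (p (b - 2)) q ∧ q ≠ p (b - 1) ∧ q ≠ p (b - 3) := by
      have b1 := adj_smul a h.adj_one.1
      have b2 := adj_smul a h.adj_one.2.1
      have b3 := adj_smul a h.adj_one.2.2
      rw [mk_smul a 1, mul_one, mk_smul, ha] at b1 b2 b3
      have key : ∀ p q : G, p⁻¹ * q ∈ H → p⁻¹ * q ∉ B →
          ((a * (p * g) : G) : G ⧸ H) ≠ ((a * (q * g) : G) : G ⧸ H) := by
        intro p q hH hB heq
        refine hB (h.edge_stab hH (mem_cj.2 ?_))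
        have := QuotientGroup.eq.1 heq
        rwa [show (a * (p * g))⁻¹ * (a * (q * g)) = g⁻¹ * (p⁻¹ * q) * g by group] at this
      have hx1 : x⁻¹ ∉ B := fun hm => h.three_notMem h.order (by simpa using B.inv_mem hm)
      have n01 := key x 1 (by simpa using h.memH) (by simpa using hx1)
      have n02 := key x⁻¹ 1 (by simpa using h.memH) (by simpa using h.three_notMem h.order)
      have n12 := key x x⁻¹ (H.mul_mem (H.inv_mem h.memH) (H.inv_mem h.memH)) fun hm =>
        h.xx_notMem (by simpa using B.inv_mem hm)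
      rw [one_mul] at n01 n02
      by_contra hc
      have hall : ∀ q, Adj H g (p (b - 2)) q → q = p (b - 1) ∨ q = p (b - 3) := fun q hq => by
        by_contra hn
        rw [not_or] at hn
        exact hc ⟨q, hq, hn.1, hn.2⟩
      rcases hall _ b1 with e1 | e1 <;> rcases hall _ b2 with e2 | e2 <;>
        rcases hall _ b3 with e3 | e3 <;>
        first
          | exact n01 (e2.trans e1.symm) | exact n02 (e3.trans e1.symm) | exact n12 (e2.trans e3.symm)
    let f : ℕ → G ⧸ H := fun i => if i < b - 2 then p (1 + i) else q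
    have hseg : IsPath H g (b - 2) (fun i => p (1 + i)) :=
      ⟨fun i hi => hp (1 + i) (by omega), fun i hi => hpath.2 (1 + i) (by omega)⟩
    have hseg' : IsPath H g (b - 2) f := by
      refine ⟨fun i hi => ?_, fun i hi => ?_⟩
      · simp only [f, if_pos hi]
        rcases Nat.lt_or_ge (i + 1) (b - 2) with hlt | hge
        · rw [if_pos hlt]; exact hp (1 + i) (by omega)
        · rw [if_neg (by omega), show 1 + i = b - 2 by omega]; exact hq
      · simp only [f, if_pos (show i < b - 2 by omega)]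
        rcases Nat.lt_or_ge (i + 2) (b - 2) with hlt | hge
        · rw [if_pos hlt]; exact hpath.2 (1 + i) (by omega)
        · rw [if_neg (by omega), show 1 + i = b - 3 by omega]; exact hq2
    obtain ⟨t, ht⟩ := htrans (b - 2) (by omega) _ _ hseg hseg'
    have hc_eq : ∀ (t : G) (u : G ⧸ H), cAt c (t • u) = t * cAt c u * t⁻¹ := fun t u => by
      obtain ⟨a, rfl⟩ := QuotientGroup.mk_surjective u
      rw [mk_smul, h.cAt_mk, h.cAt_mk]; group
    have e0 := ht 0 (by omega)
    have el := ht (b - 2) le_rfl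
    simp only [f, if_pos (show 0 < b - 2 by omega), lt_irrefl, if_false, Nat.add_zero,
      show 1 + (b - 2) = b - 1 by omega] at e0 el
    refine hq1 (h.c_inj hlast hq ?_).symm
    rw [← el, hc_eq, ← hceq, ← hc_eq, e0]

end

end CfsgLib.Char.SuborbitThree
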