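import Cfsg.Agent.Lib.Char.SuborbitThree.Basic

/-!
# The module generated by the central involutions
-/

set_option autoImplicit false
set_option linter.unusedSectionVars false

namespace CfsgLib.Char.SuborbitThree

open Subgroup

universe u

variable {G : Type u} [Group G]

/-- The involutions centralizing `B`. -/
def zsub (B : Subgroup G) : Subgroup G where
  carrier := {z | z ∈ B ∧ z * z = 1 ∧ ∀ b ∈ B, b * z = z * b}
  one_mem' := ⟨B.one_mem, one_mul 1, fun b _ => by rw [mul_one, one_mul]⟩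
  mul_mem' := fun {y z} hy hz => ⟨B.mul_mem hy.1 hz.1, by
    rw [show y * z * (y * z) = y * (z * y) * z by group, hy.2.2 z hz.1,
      show y * (y * z) * z = (y * y) * (z * z) by group, hy.2.1, hz.2.1, one_mul],
    fun b hb => by rw [← mul_assoc, hy.2.2 b hb, mul_assoc, hz.2.2 b hb, mul_assoc]⟩
  inv_mem' := fun {y} hy => by
    rw [inv_eq_of_mul_eq_one_right hy.2.1]
    exact hy

theorem mem_zsub {B : Subgroup G} {z : G} :
    z ∈ zsub B ↔ z ∈ B ∧ z * z = 1 ∧ ∀ b ∈ B, b * z = z * b := Iff.rfl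

theorem cj_zsub {B : Subgroup G} {t : G} (ht : cj t B = B) : cj t (zsub B) = zsub B := by
  have key : ∀ {s : G}, cj s B = B → cj s (zsub B) ≤ zsub B := by
    intro s hs
    rintro _ ⟨z, hz, rfl⟩
    refine ⟨hs ▸ conj_mem_cj hz.1, ?_, fun b hb => ?_⟩
    · show s * z * s⁻¹ * (s * z * s⁻¹) = 1
      rw [show s * z * s⁻¹ * (s * z * s⁻¹) = s * (z * z) * s⁻¹ by group, hz.2.1]
      group
    · show b * (s * z * s⁻¹) = s * z * s⁻¹ * b
      have hb' : s⁻¹ * b * s ∈ B := mem_cj.1 (hs.symm ▸ hb)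
      rw [show b * (s * z * s⁻¹) = s * ((s⁻¹ * b * s) * z) * s⁻¹ by group, hz.2.2 _ hb']
      group
  have hinv : cj t⁻¹ B = B := by
    conv_lhs => rw [← ht]
    rw [← cj_mul, inv_mul_cancel, cj_one]
  exact le_antisymm (key ht) ((cj_le_iff (g := t⁻¹)).1 (key hinv) |>.trans_eq (by rw [inv_inv]))

/-- The normal closure of the central involutions in `H`. -/
def vsub (B : Subgroup G) (x : G) : Subgroup G :=
  zsub B ⊔ cj x (zsub B) ⊔ cj (x * x) (zsub B)

/-- The elements of the centre fixed by the element of order three. -/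
def csub (B : Subgroup G) (x : G) : Subgroup G := zsub B ⊓ centralizer ({x} : Set G)

variable [Finite G] {H B : Subgroup G} {g : G} {k : ℕ} {x : G}

/-- The constrained case. -/
structure Cons (H B : Subgroup G) (g : G) (k : ℕ) (x : G) : Prop extends Data H B g k x where
  pos : k ≠ 0
  cons : ∀ a ∈ H, (∀ q ∈ bcore H B, a * q = q * a) → a ∈ bcore H B

theorem Cons.zsub_le (h : Cons H B g k x) : zsub B ≤ bcore H B := fun z hz =>
  h.cons z (h.le hz.1) fun q hq => (hz.2.2 q (bcore_le hq)).symm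

theorem Cons.cj_zsub_cases (h : Cons H B g k x) {a : G} (ha : a ∈ H) :
    cj a (zsub B) = zsub B ∨ cj a (zsub B) = cj x (zsub B) ∨
      cj a (zsub B) = cj (x * x) (zsub B) := by
  rcases h.coset ha with hb | hb | hb
  · exact Or.inl (cj_zsub (cj_self hb))
  · refine Or.inr (Or.inl ?_)
    rw [show a = x * (x⁻¹ * a) by group, cj_mul, cj_zsub (cj_self hb)]
  · refine Or.inr (Or.inr ?_)
    rw [← h.inv_eq, show a = x⁻¹ * (x * a) by group, cj_mul, cj_zsub (cj_self hb)]

theorem Cons.cj_vsub (h : Cons H B g k x) {a : G} (ha : a ∈ H) :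
    cj a (vsub B x) = vsub B x := by
  have key : ∀ b ∈ H, cj b (vsub B x) ≤ vsub B x := by
    intro b hb
    have hle : ∀ c ∈ H, cj c (zsub B) ≤ vsub B x := by
      intro c hc
      rcases h.cj_zsub_cases hc with e | e | e <;> rw [e]
      · exact le_sup_left.trans le_sup_left
      · exact le_sup_right.trans le_sup_left
      · exact le_sup_right
    rw [vsub, cj_sup, cj_sup, ← cj_mul, ← cj_mul]
    exact sup_le (sup_le (hle b hb) (hle _ (H.mul_mem hb h.memH)))
      (hle _ (H.mul_mem hb (H.mul_mem h.memH h.memH)))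
  exact le_antisymm (key a ha) ((cj_le_iff (g := a⁻¹)).1 (key a⁻¹ (H.inv_mem ha)) |>.trans_eq
    (by rw [inv_inv]))

theorem Cons.vsub_le (h : Cons H B g k x) : vsub B x ≤ bcore H B :=
  sup_le (sup_le h.zsub_le ((cj_mono h.zsub_le).trans_eq (cj_bcore h.memH)))
    ((cj_mono h.zsub_le).trans_eq (cj_bcore (H.mul_mem h.memH h.memH)))

theorem Cons.core_comm (h : Cons H B g k x) :
    ∀ u ∈ vsub B x, ∀ q ∈ bcore H B, u * q = q * u := by
  have hz : ∀ a ∈ H, ∀ u ∈ cj a (zsub B), ∀ q ∈ bcore H B, u * q = q * u := by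
    rintro a ha _ ⟨z, hz, rfl⟩ q hq
    show a * z * a⁻¹ * q = q * (a * z * a⁻¹)
    have hq' : a⁻¹ * q * a ∈ bcore H B := mem_cj.1 ((cj_bcore (B := B) ha).symm ▸ hq)
    rw [show a * z * a⁻¹ * q = a * (z * (a⁻¹ * q * a)) * a⁻¹ by group, ← hz.2.2 _ (bcore_le hq')]
    group
  exact commute_sup (commute_sup (fun u hu q hq => (hu.2.2 q (bcore_le hq)).symm) (hz x h.memH))
    (hz _ (H.mul_mem h.memH h.memH))

theorem Cons.isEl_vsub (h : Cons H B g k x) : IsEl (vsub B x) := by
  have hz : IsEl (zsub B) := fun z hz => hz.2.1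
  have hc : ∀ a : G, IsEl (cj a (zsub B)) := by
    rintro a _ ⟨z, hz, rfl⟩
    show a * z * a⁻¹ * (a * z * a⁻¹) = 1
    rw [show a * z * a⁻¹ * (a * z * a⁻¹) = a * (z * z) * a⁻¹ by group, hz.2.1]
    group
  have h1 : zsub B ⊔ cj x (zsub B) ≤ vsub B x := le_sup_left
  have h2 : cj (x * x) (zsub B) ≤ vsub B x := le_sup_right
  exact isEl_sup (isEl_sup hz (hc x) fun u hu w hw =>
      h.core_comm u (h1 (mem_sup_left hu)) w (h.vsub_le (h1 (mem_sup_right hw))))
    (hc _) fun u hu w hw => h.core_comm u (h1 hu) w (h.vsub_le (h2 hw))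

theorem Cons.zsub_ne_bot (h : Cons H B g k x) : zsub B ≠ ⊥ := by
  intro hbot
  haveI : Fact (Nat.Prime 2) := ⟨Nat.prime_two⟩
  have h2 : IsPGroup 2 B := IsPGroup.of_card h.cardB
  haveI : Nontrivial B := Finite.one_lt_card_iff_nontrivial.1
    (by rw [h.cardB]; exact Nat.one_lt_pow h.pos one_lt_two)
  haveI := h2.center_nontrivial
  obtain ⟨j, hj⟩ := IsPGroup.iff_card.1 (h2.to_subgroup (center B))
  have hj0 : j ≠ 0 := fun e => absurd (Finite.one_lt_card (α := center B))
    (by rw [hj, e, pow_zero]; exact lt_irrefl 1)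
  obtain ⟨⟨⟨z, hzB⟩, hzc⟩, hz⟩ :=
    exists_prime_orderOf_dvd_card' (G := center B) 2 (hj ▸ dvd_pow_self 2 hj0)
  have hzo : orderOf z = 2 := by rwa [← Subgroup.orderOf_coe, ← Subgroup.orderOf_coe] at hz
  have hmem : z ∈ zsub B := ⟨hzB, by rw [← pow_two, ← hzo, pow_orderOf_eq_one],
    fun b hb => congrArg Subtype.val (mem_center_iff.1 hzc ⟨b, hb⟩)⟩
  rw [hbot, mem_bot] at hmem
  rw [hmem, orderOf_one] at hzo
  exact absurd hzo (by norm_num)

theorem Cons.zsub_not_normal (h : Cons H B g k x) : cj x (zsub B) ≠ zsub B := fun hx =>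
  h.zsub_ne_bot (h.eq_bot_of_normalized (fun _ hz => h.le hz.1)
    (fun _ ha => h.toData.normalized (fun _ hb => cj_zsub (cj_self hb)) hx ha) h.notMem
    (cj_zsub h.norm))

theorem Cons.zsub_le_vsub (_h : Cons H B g k x) : zsub B ≤ vsub B x :=
  le_sup_left.trans le_sup_left

/-- The centralizer of `V` in `H` is the core. -/
theorem Cons.mem_core_of_comm (h : Cons H B g k x) {u : G} (hu : u ∈ H)
    (hc : ∀ v ∈ vsub B x, u * v = v * u) : u ∈ bcore H B := by
  let C : Subgroup G := H ⊓ centralizer (vsub B x : Set G)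
  have hn : ∀ a ∈ H, cj a C = C := by
    have key : ∀ b ∈ H, cj b C ≤ C := by
      rintro b hb _ ⟨c, ⟨hcH, hcC⟩, rfl⟩
      refine ⟨H.mul_mem (H.mul_mem hb hcH) (H.inv_mem hb), mem_centralizer_iff.2 fun v hv => ?_⟩
      show v * (b * c * b⁻¹) = b * c * b⁻¹ * v
      have hv' : b⁻¹ * v * b ∈ vsub B x := mem_cj.1 ((h.cj_vsub hb).symm ▸ hv)
      rw [show v * (b * c * b⁻¹) = b * ((b⁻¹ * v * b) * c) * b⁻¹ by group,
        mem_centralizer_iff.1 hcC _ hv']
      group
    exact fun a ha => le_antisymm (key a ha) ((cj_le_iff (g := a⁻¹)).1 (key a⁻¹ (H.inv_mem ha))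
      |>.trans_eq (by rw [inv_inv]))
  rcases h.normal_cases (inf_le_left : C ≤ H) hn with hx | hle
  · refine absurd ?_ h.zsub_not_normal
    ext y
    rw [mem_cj]
    have hcom : ∀ z ∈ zsub B, x * z = z * x := fun z hz =>
      (mem_centralizer_iff.1 hx.2 z (h.zsub_le_vsub hz)).symm
    constructor
    · intro hy
      have h1 := hcom _ hy
      have hyy : y = x⁻¹ * y * x := by
        calc y = x * (x⁻¹ * y * x) * x⁻¹ := by group
          _ = x⁻¹ * y * x := by rw [h1]; group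
      rwa [hyy]
    · intro hy
      rwa [mul_assoc, ← hcom y hy, inv_mul_cancel_left]
  · exact hle ⟨hu, mem_centralizer_iff.2 fun v hv => (hc v hv).symm⟩

/-- An elementary abelian subgroup of maximal order of `B`. -/
def IsMaxEl (B A : Subgroup G) : Prop :=
  A ≤ B ∧ IsEl A ∧ ∀ A' : Subgroup G, A' ≤ B → IsEl A' → Nat.card A' ≤ Nat.card A

theorem exists_isMaxEl (B : Subgroup G) : ∃ A, IsMaxEl B A := by
  classical
  haveI := Fintype.ofFinite (Subgroup G)
  obtain ⟨A, hA, hmax⟩ := Finset.exists_max_image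
    (Finset.univ.filter fun A : Subgroup G => A ≤ B ∧ IsEl A) (fun A => Nat.card A)
    ⟨⊥, Finset.mem_filter.2 ⟨Finset.mem_univ _, bot_le, fun z hz => by
      rw [mem_bot] at hz; rw [hz, one_mul]⟩⟩
  obtain ⟨hA1, hA2⟩ := (Finset.mem_filter.1 hA).2
  exact ⟨A, hA1, hA2, fun A' h1 h2 =>
    hmax A' (Finset.mem_filter.2 ⟨Finset.mem_univ _, h1, h2⟩)⟩

/-- The Thompson subgroup is not inside the core. -/
theorem Cons.exists_offender (h : Cons H B g k x) :
    ∃ A, IsMaxEl B A ∧ ∃ a ∈ A, a ∉ bcore H B := by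
  by_contra hc
  have hall : ∀ A, IsMaxEl B A → A ≤ bcore H B := fun A hA a ha => by
    by_contra hn
    exact hc ⟨A, hA, a, ha, hn⟩
  set J : Subgroup G := ⨆ (A : Subgroup G) (_ : IsMaxEl B A), A with hJ
  have hJc : J ≤ bcore H B := iSup₂_le hall
  have hmap : ∀ {s : G}, (∀ A, IsMaxEl B A → cj s A ≤ B) → cj s J ≤ J := by
    intro s hs
    rw [hJ]
    unfold cj
    rw [Subgroup.map_iSup]
    refine iSup_le fun A => ?_
    rw [Subgroup.map_iSup]
    refine iSup_le fun hA => ?_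
    refine le_iSup₂_of_le (A.map (MulAut.conj s).toMonoidHom) ⟨hs A hA, ?_, fun A' h1 h2 => ?_⟩
      le_rfl
    · rintro _ ⟨z, hz, rfl⟩
      rw [← map_mul, hA.2.1 z hz, map_one]
    · exact (hA.2.2 A' h1 h2).trans_eq (card_cj s A).symm
  have hHJ : ∀ a ∈ H, cj a J = J := by
    have key : ∀ b ∈ H, cj b J ≤ J := fun b hb =>
      hmap fun A hA => ((cj_mono (hall A hA)).trans_eq (cj_bcore hb)).trans bcore_le
    exact fun a ha => le_antisymm (key a ha) ((cj_le_iff (g := a⁻¹)).1 (key a⁻¹ (H.inv_mem ha))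
      |>.trans_eq (by rw [inv_inv]))
  have hgJ : cj g J = J := le_antisymm (hmap fun A hA => (cj_mono hA.1).trans_eq h.norm)
    ((cj_le_iff (g := g⁻¹)).1 (hmap fun A hA => (cj_mono hA.1).trans_eq h.toHyp.norm_inv) |>.trans_eq
      (by rw [inv_inv]))
  have hbot := h.eq_bot_of_normalized (hJc.trans (bcore_le.trans h.le)) hHJ h.notMem hgJ
  obtain ⟨A, hA⟩ := exists_isMaxEl B
  have hAbot : A = ⊥ := le_bot_iff.1 (hbot ▸ le_iSup₂_of_le A hA le_rfl)
  have h1 := hA.2.2 (zsub B) (fun z hz => hz.1) fun z hz => hz.2.1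
  rw [hAbot, card_bot] at h1
  exact h.zsub_ne_bot (Subgroup.eq_bot_of_card_le _ h1)

theorem Cons.cj_zsub_le_vsub (_h : Cons H B g k x) : cj x (zsub B) ≤ vsub B x :=
  le_sup_right.trans le_sup_left

theorem Cons.zsub_lt (h : Cons H B g k x) : ∃ v ∈ cj x (zsub B), v ∉ zsub B := by
  by_contra hc
  refine h.zsub_not_normal (Subgroup.eq_of_le_of_card_ge (fun v hv => ?_) (card_cj _ _).ge)
  by_contra hn
  exact hc ⟨v, hv, hn⟩

theorem Cons.index_vsub (h : Cons H B g k x) :
    Nat.card (vsub B x) ≤ 2 * Nat.card (zsub B) ∧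
      ((zsub B).subgroupOf (vsub B x)).index = 2 := by
  obtain ⟨A, hA, a, ha, hac⟩ := h.exists_offender
  set A0 := A ⊓ bcore H B with hA0
  have h2 : Nat.card A ≤ 2 * Nat.card A0 := card_le_two_mul_of_prod inf_le_left
    fun e he e' he' hn hn' => ⟨A.mul_mem he he', h.mul_mem_core (hA.1 he) (fun hh => hn ⟨he, hh⟩)
      (hA.1 he') fun hh => hn' ⟨he', hh⟩⟩
  have hel : IsEl (A0 ⊔ vsub B x) := isEl_sup (fun u hu => hA.2.1 u hu.1) h.isEl_vsub
    fun u hu w hw => (h.core_comm w hw u hu.2).symm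
  have hcard := hA.2.2 _ (sup_le (inf_le_left.trans hA.1) (h.vsub_le.trans bcore_le)) hel
  have hz : A0 ⊓ vsub B x ≤ zsub B := by
    rintro u ⟨⟨huA, huc⟩, huV⟩
    refine ⟨hA.1 huA, hA.2.1 u huA, fun b hb => ?_⟩
    by_cases hbc : b ∈ bcore H B
    · exact (h.core_comm u huV b hbc).symm
    have hab := h.mul_mem_core (hA.1 ha) hac hb hbc
    have e1 : a * u = u * a := hA.2.1.comm ha huA
    have e2 := h.core_comm u huV _ hab
    have : a * (b * u) = a * (u * b) := by
      rw [← mul_assoc, ← e2, ← mul_assoc, ← e1, mul_assoc]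
    exact mul_left_cancel this
  have hz' := Subgroup.card_le_of_le hz
  have hprod := card_sup_mul_inf_ge A0 (vsub B x)
  have hle : Nat.card (vsub B x) ≤ 2 * Nat.card (zsub B) := by
    have hpos : 0 < Nat.card A0 := Nat.card_pos
    have h3 : Nat.card A0 * Nat.card (vsub B x) ≤ 2 * Nat.card A0 * Nat.card (zsub B) :=
      hprod.trans (Nat.mul_le_mul (hcard.trans h2) hz')
    nlinarith
  refine ⟨hle, ?_⟩
  have hci := ((zsub B).subgroupOf (vsub B x)).card_mul_index
  rw [Nat.card_congr (subgroupOfEquivOfLe h.zsub_le_vsub).toEquiv] at hci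
  have hne : ((zsub B).subgroupOf (vsub B x)).index ≠ 1 := by
    rw [ne_eq, Subgroup.index_eq_one, subgroupOf_eq_top]
    intro hle'
    obtain ⟨v, hv, hvn⟩ := h.zsub_lt
    exact hvn (hle' (h.cj_zsub_le_vsub hv))
  have hne0 : ((zsub B).subgroupOf (vsub B x)).index ≠ 0 := Subgroup.index_ne_zero_of_finite
  have hpos : 0 < Nat.card (zsub B) := Nat.card_pos
  have : ((zsub B).subgroupOf (vsub B x)).index ≤ 2 := by nlinarith
  omega

theorem Cons.card_vsub (h : Cons H B g k x) :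
    Nat.card (vsub B x) = 2 * Nat.card (zsub B) := by
  have hci := ((zsub B).subgroupOf (vsub B x)).card_mul_index
  rw [Nat.card_congr (subgroupOfEquivOfLe h.zsub_le_vsub).toEquiv, h.index_vsub.2] at hci
  omega

theorem Cons.mul_mem_zsub (h : Cons H B g k x) {u w : G} (hu : u ∈ vsub B x) (hu' : u ∉ zsub B)
    (hw : w ∈ vsub B x) (hw' : w ∉ zsub B) : u * w ∈ zsub B :=
  ((Subgroup.mul_mem_iff_of_index_two h.index_vsub.2 (a := ⟨u, hu⟩) (b := ⟨w, hw⟩))).2
    (iff_of_false hu' hw')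

theorem Cons.mem_csub_of (h : Cons H B g k x) {u : G} (h1 : u ∈ zsub B)
    (h2 : u ∈ cj x (zsub B)) : u ∈ csub B x := by
  refine ⟨h1, mem_centralizer_singleton_iff.2 ?_⟩
  obtain ⟨y, hy, he⟩ := h2
  change x * y * x⁻¹ = u at he
  -- the centralizer of `u` in `H` contains `B` and a conjugate of it
  set C : Subgroup G := H ⊓ centralizer ({u} : Set G)
  have hBC : B ≤ C := fun b hb => ⟨h.le hb, mem_centralizer_singleton_iff.2 (h1.2.2 b hb)⟩
  have hBC' : cj x B ≤ C := by
    rintro _ ⟨b, hb, rfl⟩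
    refine ⟨H.mul_mem (H.mul_mem h.memH (h.le hb)) (H.inv_mem h.memH),
      mem_centralizer_singleton_iff.2 ?_⟩
    show x * b * x⁻¹ * u = u * (x * b * x⁻¹)
    rw [← he, show x * b * x⁻¹ * (x * y * x⁻¹) = x * (b * y) * x⁻¹ by group, hy.2.2 b hb]
    group
  by_contra hxu
  have hxC : x ∉ C := fun hx => hxu (mem_centralizer_singleton_iff.1 hx.2).symm
  refine h.pos (h.toData.k_eq_zero (Subgroup.eq_of_le_of_card_ge ?_ (card_cj x B).ge))
  intro c hc
  have hcC := hBC' hc
  rcases h.coset hcC.1 with hb | hb | hb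
  · exact hb
  · exact absurd (by simpa [mul_assoc] using C.mul_mem hcC (C.inv_mem (hBC hb))) hxC
  · exact absurd (by simpa [mul_assoc] using C.mul_mem (hBC hb) (C.inv_mem hcC)) hxC

theorem Cons.csub_le_cj (h : Cons H B g k x) (a : G) (ha : a = x ∨ a = x * x) :
    csub B x ≤ cj a (zsub B) := by
  rintro u ⟨hu, hux⟩
  have e : u * x = x * u := mem_centralizer_singleton_iff.1 hux
  rw [mem_cj]
  rcases ha with rfl | rfl
  · rwa [mul_assoc, e, inv_mul_cancel_left]
  · rwa [mul_assoc, ← mul_assoc u, e, mul_assoc x u, e, ← mul_assoc x, inv_mul_cancel_left]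

theorem Cons.card_zsub (h : Cons H B g k x) : Nat.card (zsub B) = 2 * Nat.card (csub B x) := by
  have hle : Nat.card (zsub B) ≤ 2 * Nat.card (csub B x) := by
    have h1 := card_sup_mul_inf_ge (zsub B) (cj x (zsub B))
    have h2 : Nat.card ↥(zsub B ⊔ cj x (zsub B)) ≤ Nat.card (vsub B x) :=
      Subgroup.card_le_of_le le_sup_left
    have h3 : Nat.card ↥(zsub B ⊓ cj x (zsub B)) ≤ Nat.card (csub B x) :=
      Subgroup.card_le_of_le fun u hu => h.mem_csub_of hu.1 hu.2
    rw [card_cj] at h1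
    have := h1.trans (Nat.mul_le_mul h2 h3)
    rw [h.card_vsub] at this
    have hpos : 0 < Nat.card (zsub B) := Nat.card_pos
    nlinarith
  have hle' : csub B x ≤ zsub B := inf_le_left
  have hci := ((csub B x).subgroupOf (zsub B)).card_mul_index
  rw [Nat.card_congr (subgroupOfEquivOfLe hle').toEquiv] at hci
  have hne : ((csub B x).subgroupOf (zsub B)).index ≠ 1 := by
    rw [ne_eq, Subgroup.index_eq_one, subgroupOf_eq_top]
    intro hle''
    obtain ⟨v, ⟨y, hy, he⟩, hvn⟩ := h.zsub_lt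
    refine hvn ?_
    change x * y * x⁻¹ = v at he
    rw [← he, mem_centralizer_singleton_iff.1 (hle'' hy).2 |>.symm, mul_inv_cancel_right]
    exact hy
  have hne0 : ((csub B x).subgroupOf (zsub B)).index ≠ 0 := Subgroup.index_ne_zero_of_finite
  have hpos : 0 < Nat.card (csub B x) := Nat.card_pos
  have : ((csub B x).subgroupOf (zsub B)).index ≤ 2 := by nlinarith
  interval_cases ((csub B x).subgroupOf (zsub B)).index <;> omega

/-- Moving conjugates. -/
theorem Hyp.exists_cj_notMem (h : Hyp H B g k) {t : G} (htH : t ∉ H) : ∃ a ∈ cj t H, a ∉ H := by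
  by_contra hc
  have hle : cj t H ≤ H := fun a ha => by
    by_contra hn
    exact hc ⟨a, ha, hn⟩
  have heq : cj t H = H := Subgroup.eq_of_le_of_card_ge hle (card_cj t H).ge
  have hbot := h.eq_bot_of_normalized le_rfl (fun _ ha => cj_self ha) htH heq
  have h1 := h.cardH
  rw [hbot, card_bot] at h1
  have := Nat.one_le_two_pow (n := k)
  omega

theorem Cons.csub_disjoint (h : Cons H B g k x) {t : G} (htB : cj t B = B) (htH : t ∉ H) :
    csub B x ⊓ cj t (csub B x) = ⊥ := by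
  rw [eq_bot_iff]
  rintro u ⟨hu, hu'⟩
  rw [mem_bot]
  obtain ⟨w, hw, he⟩ := hu'
  change t * w * t⁻¹ = u at he
  have hc : ∀ y ∈ csub B x, ∀ a ∈ H, a * y = y * a := fun y hy =>
    h.toData.commutes hy.1.2.2 (mem_centralizer_singleton_iff.1 hy.2).symm
  have hH : H ≤ centralizer ({u} : Set G) := fun a ha =>
    mem_centralizer_singleton_iff.2 (hc u hu a ha)
  obtain ⟨a, ⟨b, hb, rfl⟩, haH⟩ := h.exists_cj_notMem htH
  have htop := h.toHyp.eq_top_of hH (mem_centralizer_singleton_iff.2 (by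
    show t * b * t⁻¹ * u = u * (t * b * t⁻¹)
    rw [← he, show t * b * t⁻¹ * (t * w * t⁻¹) = t * (b * w) * t⁻¹ by group, hc w hw b hb]
    group)) haH
  have := h.core (Subgroup.zpowers u) ⟨fun n hn c => ?_⟩ (zpowers_le.2 (h.le hu.1.1))
  · rwa [zpowers_eq_bot] at this
  · obtain ⟨j, rfl⟩ := hn
    have hcu : c * u = u * c := mem_centralizer_singleton_iff.1 (htop ▸ mem_top c)
    rw [show c * u ^ j * c⁻¹ = u ^ j by
      rw [(Commute.zpow_right hcu j : Commute c (u ^ j)).eq, mul_inv_cancel_right]]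
    exact ⟨j, rfl⟩

theorem Cons.card_csub_le (h : Cons H B g k x) : Nat.card (csub B x) ≤ 2 := by
  have h1 := card_sup_mul_inf_ge (csub B x) (cj g (csub B x))
  rw [h.csub_disjoint h.norm h.notMem, card_bot, mul_one, card_cj] at h1
  have h2 : Nat.card ↥(csub B x ⊔ cj g (csub B x)) ≤ Nat.card (zsub B) :=
    Subgroup.card_le_of_le (sup_le inf_le_left
      ((cj_mono inf_le_left).trans_eq (cj_zsub h.norm)))
  have := h1.trans h2
  rw [h.card_zsub] at this
  have hpos : 0 < Nat.card (csub B x) := Nat.card_pos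
  nlinarith

/-- The commutator generator. -/
theorem Cons.exists_gen (h : Cons H B g k x) : ∃ z, z ∈ zsub B ∧ z ∉ csub B x ∧
    ∀ b ∈ B, b ∉ bcore H B → ∀ u ∈ vsub B x, u ∉ zsub B → b * u * b⁻¹ * u = z := by
  obtain ⟨A, hA, a, ha, hac⟩ := h.exists_offender
  obtain ⟨v, hv, hvn⟩ := h.zsub_lt
  have haB := hA.1 ha
  have haa : a * a = 1 := hA.2.1 a ha
  have hainv : a⁻¹ = a := inv_eq_of_mul_eq_one_right haa
  have hvV := h.cj_zsub_le_vsub hv
  have hV : ∀ b ∈ B, ∀ u ∈ vsub B x, b * u * b⁻¹ ∈ vsub B x := fun b hb u hu =>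
    h.cj_vsub (h.le hb) ▸ conj_mem_cj hu
  have el := h.isEl_vsub
  set z := a * v * a⁻¹ * v with hz
  have hzV : z ∈ vsub B x := (vsub B x).mul_mem (hV a haB v hvV) hvV
  have hza : a * z = z * a := by
    rw [hz, hainv]
    have e := el.comm (hV a haB v hvV) hvV
    rw [hainv] at e
    calc a * (a * v * a * v) = (a * a) * v * a * v := by group
      _ = v * a * v * (a * a) := by rw [haa]; group
      _ = v * (a * v * a) * a := by group
      _ = a * v * a * v * a := by rw [← e]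
  have hall : ∀ b ∈ B, b ∉ bcore H B → ∃ q ∈ bcore H B, b = a * q := fun b hb hbc =>
    ⟨a * b, h.mul_mem_core haB hac hb hbc, by rw [← mul_assoc, haa, one_mul]⟩
  have hzZ : z ∈ zsub B := by
    refine ⟨bcore_le (h.vsub_le hzV), el z hzV, fun b hb => ?_⟩
    by_cases hbc : b ∈ bcore H B
    · exact (h.core_comm z hzV b hbc).symm
    obtain ⟨q, hq, rfl⟩ := hall b hb hbc
    rw [mul_assoc, ← h.core_comm z hzV q hq, ← mul_assoc, hza, mul_assoc]
  refine ⟨z, hzZ, fun hzc => ?_, fun b hb hbc u hu hun => ?_⟩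
  · -- the moved coset
    obtain ⟨c, hc, he⟩ := h.swap haB hac
    have h1 : a * v * a⁻¹ ∈ cj (x * x) (zsub B) := by
      have := cj_mul a x (zsub B)
      rw [he, cj_mul, cj_zsub (cj_self hc)] at this
      exact this ▸ conj_mem_cj hv
    have h2 : v ∈ cj (x * x) (zsub B) := by
      have hmem := (cj (x * x) (zsub B)).mul_mem ((cj (x * x) (zsub B)).inv_mem h1)
        (h.csub_le_cj _ (Or.inr rfl) hzc)
      rwa [hz, inv_mul_cancel_left] at hmem
    -- pull back by `x`
    have h3 : x⁻¹ * v * x ∈ csub B x := by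
      refine h.mem_csub_of (mem_cj.1 hv) (mem_cj.2 ?_)
      have := mem_cj.1 h2
      rwa [show x⁻¹ * (x⁻¹ * v * x) * x = (x * x)⁻¹ * v * (x * x) by group]
    have h4 := mem_centralizer_singleton_iff.1 h3.2
    have : v = x⁻¹ * v * x := by
      calc v = x * (x⁻¹ * v * x) * x⁻¹ := by group
        _ = x⁻¹ * v * x := by rw [← h4]; group
    exact hvn (this ▸ h3.1)
  · obtain ⟨q, hq, rfl⟩ := hall b hb hbc
    have hw : v * u ∈ zsub B := h.mul_mem_zsub hvV hvn hu hun
    set w := v * u with hwdef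
    have huw : u = v * w := by rw [hwdef, ← mul_assoc, el v hvV, one_mul]
    have haw : a * w * a⁻¹ = w := by rw [hw.2.2 a haB, mul_inv_cancel_right]
    have hqu : q * u = u * q := (h.core_comm u hu q hq).symm
    rw [mul_inv_rev, show a * q * u * (q⁻¹ * a⁻¹) * u = a * (q * u * q⁻¹) * a⁻¹ * u by group,
      hqu, mul_inv_cancel_right, huw,
      show a * (v * w) * a⁻¹ * (v * w) = (a * v * a⁻¹) * (a * w * a⁻¹) * (v * w) by group, haw,
      el.comm hvV (h.zsub_le_vsub hw),
      show a * v * a⁻¹ * w * (w * v) = a * v * a⁻¹ * (w * w) * v by group, hw.2.1, mul_one]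

end CfsgLib.Char.SuborbitThree
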