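import Cfsg.Agent.Lib.Char.SuborbitThree.OneStep

/-!
# The case without constraint
-/

set_option autoImplicit false
set_option linter.unusedSectionVars false

namespace CfsgLib.Char.SuborbitThree

open Subgroup

universe u

/-- A group generated by a rotation and a reflection inverting it is dihedral. -/
theorem dihedral_of_relations {K : Type*} [Group K] [Finite K] {n : ℕ} [NeZero n] {r s : K}
    (hr : orderOf r = n) (hs : s * s = 1) (hrel : s * r * s = r⁻¹) (hns : s ∉ zpowers r)
    (hcard : Nat.card K = 2 * n) : Nonempty (K ≃* DihedralGroup n) := by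
  let f : ZMod n → K := fun i => r ^ i.val
  have hf : ∀ i j, f (i + j) = f i * f j := fun i j => by
    simp only [f]
    rw [← pow_add, ZMod.val_add]
    conv_rhs => rw [← pow_mod_orderOf, hr]
  have hf0 : f 0 = 1 := by simp [f]
  have hfn : ∀ i, f (-i) = (f i)⁻¹ := fun i =>
    eq_inv_of_mul_eq_one_left (by rw [← hf, neg_add_cancel, hf0])
  have hsi : s⁻¹ = s := inv_eq_of_mul_eq_one_right hs
  have hfs : ∀ i, f i * s = s * f (-i) := fun i => by
    have := (conj_pow (a := s) (b := r) (i := i.val)).symm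
    rw [hsi, hrel, inv_pow] at this
    rw [hfn]
    show r ^ i.val * s = s * (r ^ i.val)⁻¹
    rw [← this, ← mul_assoc, ← mul_assoc, hs, one_mul]
  let g : DihedralGroup n → K := fun d => match d with
    | .r i => f i
    | .sr i => s * f i
  let φ : DihedralGroup n →* K :=
    { toFun := g
      map_one' := hf0
      map_mul' := by
        rintro (i | i) (j | j) <;> simp only [DihedralGroup.r_mul_r, DihedralGroup.r_mul_sr,
          DihedralGroup.sr_mul_r, DihedralGroup.sr_mul_sr, g]
        · exact hf i j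
        · rw [← mul_assoc (f i), hfs, mul_assoc, ← hf, neg_add_eq_sub]
        · rw [mul_assoc, hf]
        · rw [← mul_assoc (s * f i), mul_assoc s (f i), hfs, ← mul_assoc, hs, one_mul, ← hf,
            neg_add_eq_sub] }
  have hinj : Function.Injective φ := by
    rw [injective_iff_map_eq_one]
    rintro (i | i) hd
    · change r ^ i.val = 1 at hd
      rw [← orderOf_dvd_iff_pow_eq_one, hr] at hd
      have : i = 0 := (ZMod.val_eq_zero i).1 (Nat.eq_zero_of_dvd_of_lt hd (ZMod.val_lt i))
      rw [this]; rfl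
    · change s * r ^ i.val = 1 at hd
      refine absurd ?_ hns
      rw [eq_inv_of_mul_eq_one_left hd]
      exact inv_mem (pow_mem (mem_zpowers r) _)
  have hbij : Function.Bijective φ := (Nat.bijective_iff_injective_and_card φ).2
    ⟨hinj, by rw [DihedralGroup.nat_card, hcard]⟩
  exact ⟨(MulEquiv.ofBijective φ hbij).symm⟩

variable {G : Type u} [Group G] [Finite G] {H B : Subgroup G} {g : G} {k : ℕ} {x : G}

/-- The stabilizer of order three. -/
theorem Hyp.zero (h : Hyp H B g 0) : Nonempty (H ≃* Multiplicative (ZMod 3)) := by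
  haveI : Fact (Nat.Prime 3) := ⟨Nat.prime_three⟩
  exact ⟨mulEquivOfPrimeCardEq (p := 3) (by simpa using h.cardH) (by simp)⟩

/-- Without constraint the core has order at most two and `H` is small. -/
theorem Data.small (h : Data H B g k x) (hk : k ≠ 0) {a : G} (ha : a ∈ H)
    (haQ : ∀ q ∈ bcore H B, a * q = q * a) (hac : a ∉ bcore H B) :
    Nonempty (H ≃* Equiv.Perm (Fin 3)) ∨ Nonempty (H ≃* DihedralGroup 6) := by
  classical
  set Q := bcore H B with hQ
  -- the element of order three centralizes the core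
  have hxQ : ∀ q ∈ Q, x * q = q * x := by
    let C : Subgroup G := H ⊓ centralizer (Q : Set G)
    have key : ∀ b ∈ H, cj b C ≤ C := by
      rintro b hb _ ⟨c, ⟨hcH, hcC⟩, rfl⟩
      refine ⟨H.mul_mem (H.mul_mem hb hcH) (H.inv_mem hb), mem_centralizer_iff.2 fun v hv => ?_⟩
      show v * (b * c * b⁻¹) = b * c * b⁻¹ * v
      have hv' : b⁻¹ * v * b ∈ Q := mem_cj.1 ((cj_bcore (B := B) hb).symm ▸ hv)
      rw [show v * (b * c * b⁻¹) = b * ((b⁻¹ * v * b) * c) * b⁻¹ by group,
        mem_centralizer_iff.1 hcC _ hv']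
      group
    have hn : ∀ b ∈ H, cj b C = C := fun b hb => le_antisymm (key b hb)
      ((cj_le_iff (g := b⁻¹)).1 (key b⁻¹ (H.inv_mem hb)) |>.trans_eq (by rw [inv_inv]))
    rcases h.normal_cases inf_le_left hn with hx | hC
    · exact fun q hq => (mem_centralizer_iff.1 hx.2 q hq).symm
    · exact absurd (hC ⟨ha, mem_centralizer_iff.2 fun q hq => (haQ q hq).symm⟩) hac
  -- the two cores meet trivially
  set D := Q ⊓ cj g Q with hD
  have hDQ : ∀ b ∈ B, cj b Q = Q := fun b hb => cj_bcore (h.le hb)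
  have hDB : ∀ b ∈ B, cj b D = D := by
    intro b hb
    have h2 : cj b (cj g Q) = cj g Q := by
      have hb' : g⁻¹ * b * g ∈ B := mem_cj.1 (h.norm.symm ▸ hb)
      rw [← cj_mul, show b * g = g * (g⁻¹ * b * g) by group, cj_mul, hDQ _ hb']
    rw [hD, cj, Subgroup.map_inf _ _ _ (MulAut.conj b).injective]
    change cj b Q ⊓ cj b (cj g Q) = _
    rw [hDQ b hb, h2]
  have hfix : ∀ (e : G) (N : Subgroup G), (∀ d ∈ N, e * d = d * e) → cj e N = N := by
    intro e N hd
    ext y
    rw [mem_cj]
    constructor <;> intro hy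
    · have := hd _ hy
      have e1 : y = e⁻¹ * y * e := by
        calc y = e * (e⁻¹ * y * e) * e⁻¹ := by group
          _ = e⁻¹ * y * e := by rw [this, mul_inv_cancel_right]
      exact e1 ▸ hy
    · rwa [mul_assoc, ← hd y hy, inv_mul_cancel_left]
  have hgx : g * x * g⁻¹ ∉ H := by
    intro hm
    obtain ⟨c, ⟨d, hd, rfl⟩, hcH⟩ := h.toHyp.exists_cj_notMem h.notMem
    refine hcH ?_
    have hdB : ∀ b ∈ B, g * b * g⁻¹ ∈ H := fun b hb => h.le (h.norm ▸ conj_mem_cj hb)
    show g * d * g⁻¹ ∈ H
    rcases h.coset hd with hb | hb | hb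
    · exact hdB _ hb
    · rw [show g * d * g⁻¹ = (g * x * g⁻¹) * (g * (x⁻¹ * d) * g⁻¹) by group]
      exact mul_mem hm (hdB _ hb)
    · rw [show g * d * g⁻¹ = (g * x * g⁻¹)⁻¹ * (g * (x * d) * g⁻¹) by group]
      exact mul_mem (inv_mem hm) (hdB _ hb)
  have hDbot : D = ⊥ := by
    refine h.toHyp.eq_bot_of_normalized (inf_le_left.trans (bcore_le.trans h.le)) (fun b hb =>
      h.normalized hDB (hfix x D fun d hd => hxQ d hd.1) hb) hgx (hfix _ D ?_)
    intro d hd
    have := hxQ _ (mem_cj.1 hd.2)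
    calc g * x * g⁻¹ * d = g * (x * (g⁻¹ * d * g)) * g⁻¹ := by group
      _ = d * (g * x * g⁻¹) := by rw [this]; group
  have hgQ : cj g Q ≤ B := (cj_mono bcore_le).trans_eq h.norm
  have h1 := card_sup_mul_inf_ge Q (cj g Q)
  rw [← hD, hDbot, card_bot, mul_one, card_cj] at h1
  have h2 : Nat.card ↥(Q ⊔ cj g Q) ≤ 2 * Nat.card Q :=
    (Subgroup.card_le_of_le (sup_le bcore_le hgQ)).trans h.card_B_le
  have hQ2 : Nat.card Q ≤ 2 := Nat.le_of_mul_le_mul_right (h1.trans h2) Nat.card_pos
  have hBQ : Nat.card B ≤ 4 := h.card_B_le.trans (by rw [← hQ]; omega)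
  rw [h.cardB] at hBQ
  have hk2 : k = 1 ∨ k = 2 := by
    rcases k with _ | _ | _ | k
    · exact absurd rfl hk
    · exact Or.inl rfl
    · exact Or.inr rfl
    · have : 2 ^ 3 ≤ 2 ^ (k + 1 + 1 + 1) := Nat.pow_le_pow_right (by norm_num) (by omega)
      omega
  rcases hk2 with rfl | rfl
  · -- the symmetric group
    left
    let B' : Subgroup H := B.subgroupOf H
    have hcard : Nat.card B' = 2 := by
      rw [Nat.card_congr (subgroupOfEquivOfLe h.le).toEquiv, h.cardB]; norm_num
    have hidx : Nat.card (H ⧸ B') = 3 := by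
      have := B'.card_mul_index
      rw [hcard, h.cardH, index_eq_card] at this
      omega
    have hinj : Function.Injective (MulAction.toPermHom H (H ⧸ B')) := by
      rw [← MonoidHom.ker_eq_bot_iff, ← normalCore_eq_ker]
      by_contra hne
      have hle := B'.normalCore_le
      have hgt : 1 < Nat.card B'.normalCore := (one_lt_card_iff_ne_bot _).2 hne
      have heq : B'.normalCore = B' :=
        Subgroup.eq_of_le_of_card_ge hle (by rw [hcard]; omega)
      haveI hBn : B'.Normal := heq ▸ B'.normalCore_normal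
      have key : ∀ b ∈ H, cj b B ≤ B := by
        rintro b hb _ ⟨c, hc, rfl⟩
        exact hBn.conj_mem ⟨c, h.le hc⟩ hc ⟨b, hb⟩
      exact absurd (h.k_eq_zero (le_antisymm (key x h.memH)
        ((cj_le_iff (g := x⁻¹)).1 (key x⁻¹ (H.inv_mem h.memH)) |>.trans_eq (by rw [inv_inv]))))
        one_ne_zero
    have hbij : Function.Bijective (MulAction.toPermHom H (H ⧸ B')) :=
      (Nat.bijective_iff_injective_and_card _).2 ⟨hinj, by
        rw [Nat.card_perm, hidx, h.cardH]; rfl⟩
    exact ⟨(MulEquiv.ofBijective _ hbij).trans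
      (Finite.equivFinOfCardEq hidx).permCongrHom⟩
  · -- the dihedral group
    right
    obtain ⟨b0, hb0, hb0Q⟩ := h.exists_outside two_ne_zero
    have hQeq : Nat.card Q = 2 := by
      have := h.card_B_le
      rw [h.cardB] at this
      change 2 ^ 2 ≤ 2 * Nat.card Q at this
      omega
    obtain ⟨⟨q, hq⟩, hq1⟩ : ∃ q : Q, q ≠ 1 := by
      haveI : Nontrivial Q := Finite.one_lt_card_iff_nontrivial.1 (by omega)
      exact exists_ne 1
    have hq1' : q ≠ 1 := fun e => hq1 (Subtype.ext e)
    have hqq : q * q = 1 := by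
      have := congrArg Subtype.val (pow_card_eq_one' (G := Q) (x := ⟨q, hq⟩))
      rwa [hQeq, SubgroupClass.coe_pow, coe_one, pow_two] at this
    have hQall : ∀ p ∈ Q, p = 1 ∨ p = q := by
      intro p hp
      obtain ⟨o, -, ho⟩ := (Nat.card_eq_two_iff' (1 : Q)).1 hQeq
      by_contra hc
      rw [not_or] at hc
      have e1 := ho ⟨p, hp⟩ (fun e => hc.1 (congrArg Subtype.val e))
      have e2 := ho ⟨q, hq⟩ hq1
      exact hc.2 (congrArg Subtype.val (e1.trans e2.symm))
    have hqB : ∀ b ∈ B, b * q = q * b := by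
      intro b hb
      have hm : b * q * b⁻¹ ∈ Q := hDQ b hb ▸ conj_mem_cj hq
      rcases hQall _ hm with e | e
      · exact absurd (conj_eq_one_iff.1 e) hq1'
      · exact mul_inv_eq_iff_eq_mul.1 e
    have hqH := h.commutes hqB (hxQ q hq)
    set v := g * q * g⁻¹ with hv
    have hvB : v ∈ B := hgQ (conj_mem_cj hq)
    have hvQ : v ∉ Q := fun hm => by
      have : v ∈ D := ⟨hm, conj_mem_cj hq⟩
      rw [hDbot, mem_bot] at this
      exact hq1' (conj_eq_one_iff.1 this)
    have hvv : v * v = 1 := by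
      rw [hv, show g * q * g⁻¹ * (g * q * g⁻¹) = g * (q * q) * g⁻¹ by group, hqq]; group
    obtain ⟨y, hy, ho, hinv⟩ := h.exists_inverted hvB hvQ hvv
    have hyq : Commute y q := hqH y hy
    have hoq : orderOf q = 2 := orderOf_eq_prime (by rw [pow_two, hqq]) hq1'
    have hqH' : q ∈ H := h.le (bcore_le hq)
    have hr : orderOf (⟨y * q, H.mul_mem hy hqH'⟩ : H) = 6 := by
      rw [Subgroup.orderOf_mk, hyq.orderOf_mul_eq_mul_orderOf_of_coprime (by rw [ho, hoq]; norm_num),
        ho, hoq]
    refine dihedral_of_relations (r := ⟨y * q, H.mul_mem hy hqH'⟩) (s := ⟨v, h.le hvB⟩) hr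
      (Subtype.ext hvv) (Subtype.ext ?_) ?_ (by rw [h.cardH]; norm_num)
    · show v * (y * q) * v = (y * q)⁻¹
      rw [mul_inv_rev, inv_eq_of_mul_eq_one_right hqq, ← hinv,
        show v * (y * q) * v = (v * y) * (q * v) by group, ← hqH v (h.le hvB)]
      have := hqH _ (H.mul_mem (H.mul_mem (h.le hvB) hy) (h.le hvB))
      rw [← this]
      group
    · rw [mem_zpowers_iff]
      rintro ⟨j, hj⟩
      have hj' : (y * q) ^ j = v := by simpa using congrArg Subtype.val hj
      have hcy : Commute v y := by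
        rw [← hj']
        exact (((Commute.refl y).mul_left hyq.symm)).zpow_left j
      have : y⁻¹ = y := by
        rw [← hinv, hcy.eq, mul_assoc, hvv, mul_one]
      have hyy : y ^ 2 = 1 := by
        rw [pow_two]; nth_rewrite 1 [← this]; rw [inv_mul_cancel]
      have := orderOf_dvd_of_pow_eq_one hyy
      rw [ho] at this
      norm_num at this

end CfsgLib.Char.SuborbitThree
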