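import Cfsg.Agent.Lib.Char.SuborbitThree.Graph
import Cfsg.Agent.Lib.Char.SuborbitThree.Small

/-!
# Primitive groups with a suborbit of length three
-/

set_option autoImplicit false
set_option linter.unusedSectionVars false

namespace CfsgLib.Char.SuborbitThree

open Subgroup

universe u v

variable {G : Type u} [Group G] [Finite G] {H B : Subgroup G} {g : G} {k : ℕ} {x : G}

/-- The five possibilities for the stabilizer. -/
def Shape (H : Subgroup G) : Prop :=
  Nonempty (H ≃* Multiplicative (ZMod 3)) ∨ Nonempty (H ≃* Equiv.Perm (Fin 3)) ∨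
    Nonempty (H ≃* DihedralGroup 6) ∨ Nonempty (H ≃* Equiv.Perm (Fin 4)) ∨
    Nonempty (H ≃* Equiv.Perm (Fin 4) × Multiplicative (ZMod 2))

theorem Cons.shape (h : Cons H B g k x) :
    Nonempty (H ≃* Equiv.Perm (Fin 4)) ∨
      Nonempty (H ≃* Equiv.Perm (Fin 4) × Multiplicative (ZMod 2)) := by
  by_cases hout : ∃ t, cj t B = B ∧ t ∉ H ∧ ∃ v ∈ cj t (vsub B x), v ∉ bcore H B
  · obtain ⟨t, htB, htH, v, hv, hvc⟩ := hout
    exact h.one_step htB htH hv hvc
  exfalso
  have hin : ∀ t, cj t B = B → t ∉ H → cj t (vsub B x) ≤ bcore H B := fun t htB htH v hv => by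
    by_contra hvc
    exact hout ⟨t, htB, htH, v, hv, hvc⟩
  obtain ⟨z, hzZ, hzc, hz⟩ := h.exists_gen
  have hgi : g⁻¹ ∉ H := fun e => h.notMem (inv_mem_iff.1 e)
  have hc1 := h.gen_mem_csub hzZ hzc hz h.norm h.notMem (hin g h.norm h.notMem)
  have hc2 := h.gen_mem_csub hzZ hzc hz h.norm_inv hgi (hin g⁻¹ h.norm_inv hgi)
  rw [inv_inv] at hc2
  have hz1 : z ≠ 1 := fun e => hzc (e ▸ one_mem _)
  have hne1 : g * z * g⁻¹ ≠ 1 := fun e => hz1 (conj_eq_one_iff.1 e)
  have hne2 : g⁻¹ * z * g ≠ 1 := fun e => hz1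
    (conj_eq_one_iff.1 (show g⁻¹ * z * g⁻¹⁻¹ = 1 by rwa [inv_inv]))
  have hceq : g⁻¹ * z * g = g * z * g⁻¹ := by
    by_contra hne
    have hinj : Function.Injective
        (![(⟨1, one_mem _⟩ : csub B x), ⟨_, hc1⟩, ⟨_, hc2⟩] : Fin 3 → csub B x) := by
      intro i j e
      have e' := congrArg Subtype.val e
      fin_cases i <;> fin_cases j <;> first
        | rfl
        | exact absurd e' hne | exact absurd e'.symm hne
        | exact absurd e' hne1 | exact absurd e'.symm hne1
        | exact absurd e' hne2 | exact absurd e'.symm hne2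
    have := Nat.card_le_card_of_injective _ hinj
    rw [Nat.card_fin] at this
    have := h.card_csub_le
    omega
  have hg2 : g * g ∈ H := by
    by_contra hn
    have hB2 : cj (g * g) B = B := by rw [cj_mul, h.norm, h.norm]
    have hmem : g * z * g⁻¹ ∈ csub B x ⊓ cj (g * g) (csub B x) := by
      refine ⟨hc1, mem_cj.2 ?_⟩
      rw [show (g * g)⁻¹ * (g * z * g⁻¹) * (g * g) = g⁻¹ * z * g by group]
      exact hc2
    rw [h.csub_disjoint hB2 hn, mem_bot] at hmem
    exact hne1 hmem
  exact Paired.false (c := g⁻¹ * z * g) (z := z)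
    { h with
      g2 := hg2
      cH := h.toData.commutes hc2.1.2.2 (mem_centralizer_singleton_iff.1 hc2.2).symm
      cZ := hc2.1
      cg := by group
      zc := hzc
      gen := hz
      zZ := hzZ
      inner := hin g h.norm h.notMem }

theorem Hyp.shape (h : Hyp H B g k) : Shape H := by
  obtain ⟨x, hx, ho⟩ := h.exists_three
  have hd : Data H B g k x := { h with memH := hx, order := ho }
  rcases Nat.eq_zero_or_pos k with rfl | hk
  · exact Or.inl h.zero
  by_cases hc : ∀ a ∈ H, (∀ q ∈ bcore H B, a * q = q * a) → a ∈ bcore H B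
  · have hcons : Cons H B g k x := { hd with pos := hk.ne', cons := hc }
    exact Or.inr (Or.inr (Or.inr hcons.shape))
  · obtain ⟨a, ha⟩ := not_forall.1 hc
    rw [Classical.not_imp, Classical.not_imp] at ha
    rcases hd.small hk.ne' ha.1 ha.2.1 ha.2.2 with e | e
    · exact Or.inr (Or.inl e)
    · exact Or.inr (Or.inr (Or.inl e))

/-- An element of odd order in a subgroup of index three lies in the core. -/
theorem conj_mem_of_odd {K C : Subgroup G} (hCK : C ≤ K) (hcard : Nat.card K = 3 * Nat.card C)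
    {e : G} (he : e ∈ C) (hodd : Odd (orderOf e)) {a : G} (ha : a ∈ K) : a⁻¹ * e * a ∈ C := by
  classical
  let C' : Subgroup K := C.subgroupOf K
  have hidx : Nat.card (K ⧸ C') = 3 := by
    have := C'.card_mul_index
    rw [Nat.card_congr (subgroupOfEquivOfLe hCK).toEquiv, hcard, mul_comm 3, index_eq_card] at this
    exact Nat.eq_of_mul_eq_mul_left Nat.card_pos this
  let e' : K := ⟨e, hCK he⟩
  let A : K ⧸ C' := ((1 : K) : K ⧸ C')
  let p : K ⧸ C' := ((⟨a, ha⟩ : K) : K ⧸ C')
  have hA : e' • A = A := by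
    show ((e' * 1 : K) : K ⧸ C') = _
    rw [mul_one]
    exact QuotientGroup.eq.2 (by simpa [C', e', mem_subgroupOf] using he)
  have h2 : (e' * e') • p = p := by
    rw [mul_smul]
    by_cases h1 : e' • p = p
    · rw [h1, h1]
    by_contra hne
    have hpA : p ≠ A := fun e0 => h1 (by rw [e0, hA])
    have hqA : e' • p ≠ A := fun e0 => hpA (smul_left_cancel e' (e0.trans hA.symm))
    have hrA : e' • e' • p ≠ A := fun e0 => hqA (smul_left_cancel e' (e0.trans hA.symm))
    have hrq : e' • e' • p ≠ e' • p := fun e0 => h1 (smul_left_cancel e' e0)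
    have hinj : Function.Injective (![A, p, e' • p, e' • e' • p] : Fin 4 → K ⧸ C') := by
      intro i j e0
      fin_cases i <;> fin_cases j <;> first
        | rfl
        | exact absurd e0 hpA | exact absurd e0.symm hpA
        | exact absurd e0 hqA | exact absurd e0.symm hqA
        | exact absurd e0 hrA | exact absurd e0.symm hrA
        | exact absurd e0 hrq | exact absurd e0.symm hrq
        | exact absurd e0 hne | exact absurd e0.symm hne
        | exact absurd e0 h1 | exact absurd e0.symm h1
    have := Nat.card_le_card_of_injective _ hinj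
    rw [Nat.card_fin, hidx] at this
    omega
  have h3 : e' • p = p := by
    obtain ⟨j, hj⟩ := hodd
    have he1 : e' = (e' * e') ^ (j + 1) := by
      apply Subtype.ext
      show e = (((e' * e') ^ (j + 1) : K) : G)
      rw [SubgroupClass.coe_pow, coe_mul]
      show e = (e * e) ^ (j + 1)
      rw [← pow_two, ← pow_mul, show 2 * (j + 1) = orderOf e + 1 by omega, pow_succ,
        pow_orderOf_eq_one, one_mul]
    rw [he1]
    exact MulAction.mem_stabilizer_iff.1
      (pow_mem (show e' * e' ∈ MulAction.stabilizer K p from h2) _)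
  have := QuotientGroup.eq.1 h3.symm
  simpa [C', e', mem_subgroupOf, mul_assoc] using this

section

variable {Ω : Type v} [MulAction G Ω] [FaithfulSMul G Ω]

/-- The local data of a primitive group with a suborbit of length three. -/
theorem exists_hyp (hprim : MulAction.IsPreprimitive G Ω) (a b : Ω)
    (h3 : Nat.card (MulAction.orbit (MulAction.stabilizer G a) b) = 3) :
    ∃ B g k, Hyp (MulAction.stabilizer G a) B g k := by
  classical
  set H := MulAction.stabilizer G a with hH
  haveI := hprim
  have hab : b ≠ a := by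
    rintro rfl
    have hs : Subsingleton (MulAction.orbit (MulAction.stabilizer G b) b) := by
      refine ⟨fun p q => Subtype.ext ?_⟩
      obtain ⟨u, hu⟩ := p.2
      obtain ⟨w, hw⟩ := q.2
      rw [← hu, ← hw]
      exact u.2.trans w.2.symm
    have := Finite.card_le_one_iff_subsingleton.2 hs
    rw [h3] at this
    omega
  haveI : Nontrivial Ω := ⟨⟨b, a, hab⟩⟩
  have hmax : IsCoatom H := MulAction.IsPreprimitive.isCoatom_stabilizer_of_isPreprimitive G a
  have hcore : ∀ N : Subgroup G, N.Normal → N ≤ H → N = ⊥ := fun N hN hle => by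
    rw [eq_bot_iff]
    intro n hn
    rw [mem_bot]
    refine eq_of_smul_eq_smul (α := Ω) fun p => ?_
    obtain ⟨t, rfl⟩ := MulAction.exists_smul_eq G a p
    have hm : t⁻¹ * n * t ∈ H := hle (hN.conj_mem' n hn t)
    rw [one_smul]
    calc n • t • a = t • ((t⁻¹ * n * t) • a) := by
          rw [smul_smul, smul_smul]; congr 1; group
      _ = t • a := by rw [show (t⁻¹ * n * t) • a = a from hm]
  set K := MulAction.stabilizer G b with hK
  set C := H ⊓ K with hC
  have hHC : Nat.card H = 3 * Nat.card C := by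
    have e := Nat.card_congr (MulAction.orbitProdStabilizerEquivGroup H b)
    rw [Nat.card_prod, h3] at e
    rw [← e]
    congr 1
    have hst : MulAction.stabilizer H b = C.subgroupOf H := by
      ext y
      rw [MulAction.mem_stabilizer_iff, mem_subgroupOf, hC, mem_inf]
      exact ⟨fun hy => ⟨y.2, hy⟩, fun hy => hy.2⟩
    rw [hst]
    exact Nat.card_congr (subgroupOfEquivOfLe inf_le_left).toEquiv
  obtain ⟨g0, hg0⟩ := MulAction.exists_smul_eq G a b
  have hKH : K = cj g0 H := by
    rw [hK, ← hg0, MulAction.stabilizer_smul_eq_stabilizer_map_conj]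
    rfl
  have hKC : Nat.card K = 3 * Nat.card C := by rw [hKH, card_cj, hHC]
  -- elements of odd order generate a normal subgroup
  let O : Subgroup G := closure {e | e ∈ C ∧ Odd (orderOf e)}
  have hnorm : ∀ t, t ∈ H ∨ t ∈ K → cj t O ≤ O := by
    intro t ht
    rw [cj, map_le_iff_le_comap, closure_le]
    rintro e ⟨he, heo⟩
    refine subset_closure ⟨?_, ?_⟩
    · show t * e * t⁻¹ ∈ C
      rcases ht with ht | ht
      · have hm := conj_mem_of_odd (inf_le_left : C ≤ H) hHC he heo (H.inv_mem ht)
        rwa [inv_inv] at hm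
      · have hm := conj_mem_of_odd (inf_le_right : C ≤ K) hKC he heo (K.inv_mem ht)
        rwa [inv_inv] at hm
    · show Odd (orderOf ((MulAut.conj t) e))
      rwa [MulEquiv.orderOf_eq]
  have hnorm' : ∀ t, t ∈ H ∨ t ∈ K → cj t O = O := fun t ht => le_antisymm (hnorm t ht)
    ((cj_le_iff (g := t⁻¹)).1 (hnorm t⁻¹ (ht.imp H.inv_mem K.inv_mem)) |>.trans_eq
      (by rw [inv_inv]))
  obtain ⟨t, htK, htH⟩ : ∃ t ∈ K, t ∉ H := by
    by_contra hc
    have hKle : K ≤ H := fun y hy => by
      by_contra hn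
      exact hc ⟨y, hy, hn⟩
    have hCK : C = K := inf_eq_right.2 hKle
    rw [hCK] at hKC
    have := Nat.card_pos (α := K)
    omega
  have hObot : O = ⊥ := by
    let M : Subgroup G :=
      { carrier := {y | cj y O = O}
        one_mem' := cj_one O
        mul_mem' := fun {p q} (hp : cj p O = O) (hq : cj q O = O) => by
          show cj (p * q) O = O
          rw [cj_mul, hq, hp]
        inv_mem' := fun {p} (hp : cj p O = O) => by
          show cj p⁻¹ O = O
          conv_lhs => rw [← hp]
          rw [← cj_mul, inv_mul_cancel, cj_one] }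
    have hM : M = ⊤ := hmax.2 M (lt_of_le_of_ne (fun y hy => hnorm' y (Or.inl hy))
      fun e => htH (e ▸ hnorm' t (Or.inr htK)))
    refine hcore O ⟨fun y hy c => ?_⟩ ((closure_le _).2 fun e he => he.1.1)
    have hc : cj c O = O := (hM ▸ mem_top c : c ∈ M)
    rw [← hc]
    exact conj_mem_cj hy
  have hC2 : IsPGroup 2 C := by
    refine IsPGroup.of_card (n := (Nat.card C).factorization 2) ?_
    refine Nat.eq_pow_of_factorization_eq_single Nat.card_pos.ne' ?_
    ext q
    rw [Finsupp.single_apply]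
    split_ifs with h2
    · rw [h2]
    by_contra hne
    have hqm : q ∈ (Nat.card C).primeFactors := by
      rw [← Nat.support_factorization, Finsupp.mem_support_iff]
      exact hne
    obtain ⟨hq, hqd, -⟩ := Nat.mem_primeFactors.1 hqm
    haveI : Fact q.Prime := ⟨hq⟩
    obtain ⟨⟨e, he⟩, heq⟩ := exists_prime_orderOf_dvd_card' (G := C) q hqd
    rw [Subgroup.orderOf_mk] at heq
    have hm : e ∈ O := subset_closure ⟨he, heq ▸ hq.odd_of_ne_two (Ne.symm h2)⟩
    rw [hObot, mem_bot] at hm
    rw [hm, orderOf_one] at heq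
    exact hq.ne_one heq.symm
  haveI : Fact (Nat.Prime 2) := ⟨Nat.prime_two⟩
  obtain ⟨k, hk⟩ := hC2.exists_card_eq
  rw [hk] at hHC hKC
  -- conjugate the two Sylow subgroups inside the stabilizer of `b`
  have hC0 : cj g0 C ≤ K := hKH ▸ cj_mono inf_le_left
  have hcardK : Nat.card C = 2 ^ (Nat.card K).factorization 2 := by
    rw [hk, hKC]
    simp [Nat.factorization_mul, Nat.Prime.factorization_pow, Nat.prime_three.factorization, Nat.prime_two.factorization_self]
  let S1 : Sylow 2 K := Sylow.ofCard ((cj g0 C).subgroupOf K) (by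
    rw [Nat.card_congr (subgroupOfEquivOfLe hC0).toEquiv, card_cj, hcardK])
  let S2 : Sylow 2 K := Sylow.ofCard (C.subgroupOf K) (by
    rw [Nat.card_congr (subgroupOfEquivOfLe (inf_le_right : C ≤ K)).toEquiv, hcardK])
  obtain ⟨w, hw⟩ := MulAction.exists_smul_eq K S1 S2
  have hnormC : cj ((w : G) * g0) C = C := by
    have hS : ((w • S1 : Sylow 2 K) : Subgroup K) = (S2 : Subgroup K) := by rw [hw]
    rw [Sylow.coe_subgroup_smul] at hS
    ext y
    rw [cj_mul]
    constructor
    · rintro ⟨u, hu, rfl⟩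
      have hm : w * ⟨u, hC0 hu⟩ * w⁻¹ ∈ (S2 : Subgroup K) := by
        rw [← hS]
        exact ⟨⟨u, hC0 hu⟩, hu, rfl⟩
      exact hm
    · intro hy
      have hm : (⟨y, hy.2⟩ : K) ∈ (S2 : Subgroup K) := hy
      rw [← hS] at hm
      obtain ⟨u, hu, he⟩ := hm
      exact ⟨u, hu, congrArg Subtype.val he⟩
  refine ⟨C, (w : G) * g0, k, hmax, hcore, by rw [hHC], hk, inf_le_left, hnormC, fun hm => hab ?_⟩
  have hm' : ((w : G) * g0) • a = a := hm
  rwa [mul_smul, hg0, show (w : G) • b = b from w.2] at hm'

theorem stabilizer_shape (hprim : MulAction.IsPreprimitive G Ω) (a b : Ω)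
    (h3 : Nat.card (MulAction.orbit (MulAction.stabilizer G a) b) = 3) :
    Shape (MulAction.stabilizer G a) := by
  obtain ⟨B, g, k, h⟩ := exists_hyp hprim a b h3
  exact h.shape

theorem stabilizer_card (hprim : MulAction.IsPreprimitive G Ω) (a b : Ω)
    (h3 : Nat.card (MulAction.orbit (MulAction.stabilizer G a) b) = 3) :
    ∃ k : ℕ, k ≤ 4 ∧ Nat.card ↥(MulAction.stabilizer G a) = 2 ^ k * 3 := by
  have hs := stabilizer_shape hprim a b h3
  unfold Shape at hs
  rcases hs with e | e | e | e | e <;> rw [Nat.card_congr e.some.toEquiv]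
  · exact ⟨0, by norm_num, by simp⟩
  · exact ⟨1, by norm_num, by rw [Nat.card_perm, Nat.card_fin]; rfl⟩
  · exact ⟨2, by norm_num, by rw [DihedralGroup.nat_card]; rfl⟩
  · exact ⟨3, by norm_num, by rw [Nat.card_perm, Nat.card_fin]; rfl⟩
  · exact ⟨4, le_rfl, by rw [Nat.card_prod, Nat.card_perm, Nat.card_fin]; simp; rfl⟩

end

end CfsgLib.Char.SuborbitThree
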