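import Cfsg.Agent.Lib.Char.SuborbitThree.OneStep

/-!
# An offender bounds the conjugates of a module inside the core
-/

set_option autoImplicit false
set_option linter.unusedSectionVars false

namespace CfsgLib.Char.SuborbitThree

open Subgroup

universe u

variable {G : Type u} [Group G] [Finite G] {H B : Subgroup G} {g : G} {k : ℕ} {x : G}

theorem card_le_index {U F : Subgroup G} (hFU : F ≤ U) (l : List G) (hl : ∀ u ∈ l, u ∈ U)
    (hp : l.Pairwise fun u w => u⁻¹ * w ∉ F) :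
    l.length * Nat.card F ≤ Nat.card U := by
  classical
  let f : Fin l.length × F → U := fun p =>
    ⟨l.get p.1 * p.2, U.mul_mem (hl _ (l.get_mem p.1)) (hFU p.2.2)⟩
  have hf : Function.Injective f := by
    rintro ⟨i, c⟩ ⟨j, d⟩ e
    have e' : l.get i * (c : G) = l.get j * d := congrArg Subtype.val e
    obtain rfl : i = j := by
      by_contra hij
      rcases lt_or_gt_of_ne hij with hlt | hlt
      · refine List.pairwise_iff_get.1 hp i j hlt ?_
        rw [show (l.get i)⁻¹ * l.get j = c * (d : G)⁻¹ by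
          rw [eq_mul_inv_iff_mul_eq, mul_assoc, ← e', inv_mul_cancel_left]]
        exact F.mul_mem c.2 (F.inv_mem d.2)
      · refine List.pairwise_iff_get.1 hp j i hlt ?_
        rw [show (l.get j)⁻¹ * l.get i = d * (c : G)⁻¹ by
          rw [eq_mul_inv_iff_mul_eq, mul_assoc, e', inv_mul_cancel_left]]
        exact F.mul_mem d.2 (F.inv_mem c.2)
    exact Prod.ext rfl (Subtype.ext (mul_left_cancel e'))
  have := Nat.card_le_card_of_injective f hf
  simpa [Nat.card_prod] using this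

/-- The generator of a conjugate module inside the core is central in `H`. -/
theorem Cons.gen_mem_csub (h : Cons H B g k x) {z : G} (hzZ : z ∈ zsub B) (hzc : z ∉ csub B x)
    (hz : ∀ b ∈ B, b ∉ bcore H B → ∀ u ∈ vsub B x, u ∉ zsub B → b * u * b⁻¹ * u = z)
    {t : G} (htB : cj t B = B) (htH : t ∉ H) (hle : cj t (vsub B x) ≤ bcore H B) :
    t * z * t⁻¹ ∈ csub B x := by
  classical
  set Q := bcore H B with hQ
  set Y := cj t (vsub B x) with hY
  obtain ⟨zt, hzt⟩ : ∃ w, w = t * z * t⁻¹ := ⟨_, rfl⟩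
  have hztZ : zt ∈ zsub B := hzt ▸ cj_zsub htB ▸ conj_mem_cj hzZ
  suffices hh : zt ∈ csub B x by rwa [hzt] at hh
  by_contra hnc
  have hzt1 : zt ≠ 1 := fun e => hnc (e ▸ (csub B x).one_mem)
  have hYel : IsEl Y := by
    rintro _ ⟨u, hu, rfl⟩
    rw [← map_mul, h.isEl_vsub u hu, map_one]
  have hZY : zsub B ≤ Y := by
    rw [← cj_zsub htB]
    exact cj_mono h.zsub_le_vsub
  -- the chosen element
  obtain ⟨v0, hv0, hv0Z⟩ := h.zsub_lt
  obtain ⟨v, hv⟩ : ∃ w, w = t * v0 * t⁻¹ := ⟨_, rfl⟩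
  have hvY : v ∈ Y := hv ▸ conj_mem_cj (h.cj_zsub_le_vsub hv0)
  have hvZ : v ∉ zsub B := fun hc => hv0Z (by
    have := mem_cj.1 ((cj_zsub htB).symm ▸ hc)
    rwa [hv, show t⁻¹ * (t * v0 * t⁻¹) * t = v0 by group] at this)
  have hYgen : ∀ u ∈ Y, u ∈ zsub B ∨ v * u ∈ zsub B := by
    intro u hu
    by_cases huZ : u ∈ zsub B
    · exact Or.inl huZ
    right
    have hu' : t⁻¹ * u * t ∈ vsub B x := mem_cj.1 hu
    have := h.mul_mem_zsub (h.cj_zsub_le_vsub hv0) hv0Z hu'
      fun hc => huZ (cj_zsub htB ▸ mem_cj.2 hc)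
    rw [← cj_zsub htB, mem_cj]
    convert this using 1
    rw [hv]; group
  have hYnorm : ∀ b ∈ B, cj b Y = Y := fun b hb => by
    have hb' : t⁻¹ * b * t ∈ B := mem_cj.1 (htB.symm ▸ hb)
    rw [hY, ← cj_mul, show b * t = t * (t⁻¹ * b * t) by group, cj_mul, h.cj_vsub (h.le hb')]
  have hact : ∀ b ∈ B, b * v = v * b ∨ b * v * b⁻¹ * v = zt := fun b hb =>
    (h.gen_conj hz htB hb hvY).imp (·.1) fun e => e.1.trans hzt.symm
  -- conjugates under the element of order three
  have hxQ : cj x Q = Q := cj_bcore h.memH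
  have hx2Q : cj (x * x) Q = Q := cj_bcore (H.mul_mem h.memH h.memH)
  have hxxi : x * (x * x) = 1 := by rw [← mul_assoc, h.pow_three]
  have hY1 : cj x Y ≤ Q := (cj_mono hle).trans_eq hxQ
  have hY2 : cj (x * x) Y ≤ Q := (cj_mono hle).trans_eq hx2Q
  have hYc : ∀ a : G, IsEl (cj a Y) := by
    rintro a _ ⟨u, hu, rfl⟩
    rw [← map_mul, hYel u hu, map_one]
  -- commutation
  have hcom : ∀ u ∈ Y, ∀ w ∈ cj x Y, u * w = w * u := by
    intro u hu w hw
    have hwB : w ∈ B := bcore_le (hY1 hw)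
    rcases h.gen_conj hz htB hwB hu with ⟨e, -⟩ | ⟨e, -⟩
    · exact e.symm
    exfalso
    -- the commutator is also the conjugate generator
    obtain ⟨w0, hw0, rfl⟩ := hw
    rw [← hzt] at e
    change x * w0 * x⁻¹ * u * (x * w0 * x⁻¹)⁻¹ * u = zt at e
    have hu' : x⁻¹ * u * x ∈ B := bcore_le (mem_cj.1 (hxQ.symm ▸ hle hu))
    have e1 : x⁻¹ * zt⁻¹ * x = (x⁻¹ * u * x)⁻¹ * w0 * (x⁻¹ * u * x) * w0⁻¹ := by
      rw [← e]
      simp only [mul_inv_rev, inv_inv, hYel.inv_eq hu, mul_assoc, inv_mul_cancel_left,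
        mul_inv_cancel_left, inv_mul_cancel, mul_inv_cancel, mul_one]
    rw [inv_eq_of_mul_eq_one_right hztZ.2.1] at e1
    have hw0' : w0⁻¹ = w0 := hYel.inv_eq hw0
    rw [hw0'] at e1
    rcases h.gen_conj hz htB (B.inv_mem hu') hw0 with ⟨e2, -⟩ | ⟨e2, -⟩
    · refine hzt1 ?_
      rw [e2, mul_assoc w0, inv_mul_cancel, mul_one, hYel w0 hw0] at e1
      calc zt = x * (x⁻¹ * zt * x) * x⁻¹ := by group
        _ = 1 := by rw [e1]; group
    · rw [inv_inv, ← e1, ← hzt] at e2
      refine hnc ⟨hztZ, mem_centralizer_singleton_iff.2 ?_⟩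
      calc zt * x = x * (x⁻¹ * zt * x) := by group
        _ = x * zt := by rw [e2]
  set U := Y ⊔ cj x Y ⊔ cj (x * x) Y with hU
  have hcom12 : ∀ u ∈ cj x Y, ∀ w ∈ cj (x * x) Y, u * w = w * u := by
    intro u hu w hw
    rw [cj_mul] at hw
    obtain ⟨u', hu', rfl⟩ := hu
    obtain ⟨w', hw', rfl⟩ := hw
    rw [← map_mul, hcom u' hu' w' hw', map_mul]
  have hcom02 : ∀ u ∈ Y, ∀ w ∈ cj (x * x) Y, u * w = w * u := by
    intro u hu w hw
    obtain ⟨w', hw', rfl⟩ := hw
    show u * ((x * x) * w' * (x * x)⁻¹) = (x * x) * w' * (x * x)⁻¹ * u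
    have e := hcom w' hw' (x * u * x⁻¹) (conj_mem_cj hu)
    calc u * ((x * x) * w' * (x * x)⁻¹) = x⁻¹ * ((x * u * x⁻¹) * (x * x * x * w' * (x * x * x)⁻¹)) * x := by
          group
      _ = x⁻¹ * ((x * u * x⁻¹) * w') * x := by rw [h.pow_three]; group
      _ = x⁻¹ * (w' * (x * u * x⁻¹)) * x := by rw [e]
      _ = x⁻¹ * (x * x * x * w' * (x * x * x)⁻¹ * (x * u * x⁻¹)) * x := by rw [h.pow_three]; group
      _ = _ := by group
  have hUel : IsEl U := by
    refine isEl_sup (isEl_sup hYel (hYc x) hcom) (hYc _) ?_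
    exact commute_sup hcom02 hcom12
  have hUQ : U ≤ Q := sup_le (sup_le hle hY1) hY2
  have hYU : Y ≤ U := le_sup_left.trans le_sup_left
  have hY1U : cj x Y ≤ U := le_sup_right.trans le_sup_left
  have hY2U : cj (x * x) Y ≤ U := le_sup_right
  have hVU : vsub B x ≤ U := sup_le (sup_le (hZY.trans hYU) ((cj_mono hZY).trans hY1U))
    ((cj_mono hZY).trans hY2U)
  have hUnorm : ∀ a ∈ H, cj a U = U := by
    have key : ∀ b ∈ H, cj b U ≤ U := by
      intro b hb
      have hc : ∀ c ∈ H, cj c Y ≤ U := by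
        intro c hc
        rcases h.coset hc with hb' | hb' | hb'
        · rw [hYnorm c hb']; exact hYU
        · rw [show c = x * (x⁻¹ * c) by group, cj_mul, hYnorm _ hb']; exact hY1U
        · rw [show c = (x * x) * (x * c) by
            rw [show x * x * (x * c) = x * x * x * c by group, h.pow_three, one_mul], cj_mul,
            hYnorm _ hb']
          exact hY2U
      rw [hU, cj_sup, cj_sup, ← cj_mul b x Y, ← cj_mul b (x * x) Y]
      exact sup_le (sup_le (hc b hb) (hc _ (H.mul_mem hb h.memH)))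
        (hc _ (H.mul_mem hb (H.mul_mem h.memH h.memH)))
    exact fun a ha => le_antisymm (key a ha) ((cj_le_iff (g := a⁻¹)).1 (key a⁻¹ (H.inv_mem ha))
      |>.trans_eq (by rw [inv_inv]))
  obtain ⟨v1, hv1⟩ : ∃ w, w = x * v * x⁻¹ := ⟨_, rfl⟩
  obtain ⟨v2, hv2⟩ : ∃ w, w = x * x * v * (x * x)⁻¹ := ⟨_, rfl⟩
  have hv0U : v ∈ U := hYU hvY
  have hv1U : v1 ∈ U := hv1 ▸ hY1U (conj_mem_cj hvY)
  have hv2U : v2 ∈ U := hv2 ▸ hY2U (conj_mem_cj hvY)
  obtain ⟨z1, hz1⟩ : ∃ w, w = x * zt * x⁻¹ := ⟨_, rfl⟩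
  obtain ⟨z2, hz2⟩ : ∃ w, w = x * x * zt * (x * x)⁻¹ := ⟨_, rfl⟩
  have hact1 : ∀ q ∈ Q, q * v1 = v1 * q ∨ q * v1 * q⁻¹ * v1 = z1 := by
    intro q hq
    rcases hact _ (bcore_le (mem_cj.1 (hxQ.symm ▸ hq))) with e | e
    · left
      calc q * v1 = x * (x⁻¹ * q * x * v) * x⁻¹ := by rw [hv1]; group
        _ = v1 * q := by rw [e, hv1]; group
    · right
      rw [hz1, ← e, hv1]; group
  have hact2 : ∀ q ∈ Q, q * v2 = v2 * q ∨ q * v2 * q⁻¹ * v2 = z2 := by
    intro q hq
    rcases hact _ (bcore_le (mem_cj.1 (hx2Q.symm ▸ hq))) with e | e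
    · left
      calc q * v2 = x * x * ((x * x)⁻¹ * q * (x * x) * v) * (x * x)⁻¹ := by rw [hv2]; group
        _ = v2 * q := by rw [e, hv2]; group
    · right
      rw [hz2, ← e, hv2]
      simp [mul_assoc]
  have hz12 : z1 ≠ z2 := by
    intro e
    refine hnc ⟨hztZ, mem_centralizer_singleton_iff.2 ?_⟩
    calc zt * x = x⁻¹ * (x * zt * x⁻¹) * x * x := by group
      _ = x⁻¹ * (x * x * zt * (x * x)⁻¹) * x * x := by rw [← hz1, e, hz2]
      _ = x * zt := by group
  have hne1 : z1 ≠ 1 := fun e => hzt1 (conj_eq_one_iff.1 (hz1 ▸ e))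
  have hne2 : z2 ≠ 1 := fun e => hzt1 (conj_eq_one_iff.1 (hz2 ▸ e))
  have hvv : v * v = 1 := hYel v hvY
  have hv11 : v1 * v1 = 1 := hUel v1 hv1U
  have hv22 : v2 * v2 = 1 := hUel v2 hv2U
  -- some element of the core moves `v`
  obtain ⟨q0, hq0, hq0v⟩ : ∃ q ∈ Q, q * v ≠ v * q := by
    by_contra hc
    have hsub : Q ≤ cj t Q := by
      intro q hq
      rcases h.gen_conj hz htB (bcore_le hq) hvY with ⟨-, h1 | h1⟩ | ⟨e, -⟩
      · exact h1
      · exact absurd h1 hvZ
      · refine absurd ?_ hzt1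
        have : q * v = v * q := by
          by_contra hn
          exact hc ⟨q, hq, hn⟩
        rw [hzt, ← e, this, mul_inv_cancel_right, hvv]
    have heq : cj t Q = Q := (Subgroup.eq_of_le_of_card_ge hsub (card_cj t Q).le).symm
    have hbot := h.eq_bot_of_normalized (bcore_le.trans h.le) (fun a ha => cj_bcore ha) htH heq
    refine h.zsub_ne_bot (le_bot_iff.1 ?_)
    rw [← hbot]
    exact h.zsub_le
  -- the offender
  obtain ⟨A, hA, a, haA, hac⟩ := h.exists_offender
  have haB := hA.1 haA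
  have haa : a * a = 1 := hA.2.1 a haA
  have hai : a⁻¹ = a := inv_eq_of_mul_eq_one_right haa
  set A0 := A ⊓ Q with hA0
  have hA2 : Nat.card A ≤ 2 * Nat.card A0 := card_le_two_mul_of_prod inf_le_left
    fun e he e' he' hn hn' => ⟨A.mul_mem he he', h.mul_mem_core (hA.1 he) (fun hh => hn ⟨he, hh⟩)
      (hA.1 he') fun hh => hn' ⟨he', hh⟩⟩
  have hconjU : ∀ b ∈ B, ∀ u ∈ U, b * u * b⁻¹ ∈ U := fun b hb u hu =>
    hUnorm b (h.le hb) ▸ conj_mem_cj hu
  let C : Subgroup G := U ⊓ centralizer (Q : Set G)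
  have hCmem : ∀ u, u ∈ C ↔ u ∈ U ∧ ∀ q ∈ Q, q * u = u * q := fun u => by
    simp only [C, mem_inf, mem_centralizer_iff, SetLike.mem_coe]
  have hVC : vsub B x ≤ C := fun u hu =>
    (hCmem u).2 ⟨hVU hu, fun q hq => (h.core_comm u hu q hq).symm⟩
  have hCa : ∀ u ∈ C, a * u * a⁻¹ ∈ C := by
    intro u hu
    obtain ⟨huU, huQ⟩ := (hCmem u).1 hu
    refine (hCmem _).2 ⟨hconjU a haB u huU, fun q hq => ?_⟩
    have hq' : a⁻¹ * q * a ∈ Q := mem_cj.1 ((cj_bcore (B := B) (h.le haB)).symm ▸ hq)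
    calc q * (a * u * a⁻¹) = a * ((a⁻¹ * q * a) * u) * a⁻¹ := by group
      _ = a * (u * (a⁻¹ * q * a)) * a⁻¹ := by rw [huQ _ hq']
      _ = a * u * a⁻¹ * q := by group
  -- the subgroup of nearly fixed elements
  let F : Subgroup G :=
    { carrier := {u | u ∈ U ∧ a * u * a⁻¹ * u ∈ C ∧ ∀ e ∈ A0, e * u = u * e}
      one_mem' := ⟨U.one_mem, by simpa using C.one_mem, fun e _ => by rw [mul_one, one_mul]⟩
      mul_mem' := by
        rintro u w ⟨huU, hu1, hu2⟩ ⟨hwU, hw1, hw2⟩
        refine ⟨U.mul_mem huU hwU, ?_, fun e he => by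
          rw [← mul_assoc, hu2 e he, mul_assoc, hw2 e he, mul_assoc]⟩
        have hcm := hUel.comm (hconjU a haB w hwU) huU
        rw [show a * (u * w) * a⁻¹ * (u * w) = (a * u * a⁻¹) * ((a * w * a⁻¹) * u) * w by group, hcm,
          show (a * u * a⁻¹) * (u * (a * w * a⁻¹)) * w =
            (a * u * a⁻¹ * u) * (a * w * a⁻¹ * w) by group]
        exact C.mul_mem hu1 hw1
      inv_mem' := by
        rintro u ⟨huU, hu1, hu2⟩
        rw [hUel.inv_eq huU]
        exact ⟨huU, hu1, hu2⟩ }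
  have hFU : F ≤ U := fun u hu => hu.1
  have hCF : C ≤ F := fun u hu => ⟨((hCmem u).1 hu).1, C.mul_mem (hCa u hu) hu,
    fun e he => ((hCmem u).1 hu).2 e he.2⟩
  let D : Subgroup G := U ⊓ centralizer (A : Set G)
  have hDmem : ∀ u, u ∈ D ↔ u ∈ U ∧ ∀ e ∈ A, e * u = u * e := fun u => by
    simp only [D, mem_inf, mem_centralizer_iff, SetLike.mem_coe]
  have hDF : D ≤ F := fun u hu => by
    obtain ⟨huU, huA⟩ := (hDmem u).1 hu
    exact ⟨huU, by rw [huA a haA, mul_inv_cancel_right, hUel u huU]; exact C.one_mem,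
      fun e he => huA e he.1⟩
  -- `D` is proper
  obtain ⟨u0, hu0, hu0Z⟩ := h.zsub_lt
  have hu0D : u0 ∉ D := by
    intro hu
    have e := hz a haB hac u0 (h.cj_zsub_le_vsub hu0) hu0Z
    rw [((hDmem u0).1 hu).2 a haA, mul_inv_cancel_right,
      h.isEl_vsub u0 (h.cj_zsub_le_vsub hu0)] at e
    exact hzc (e ▸ (csub B x).one_mem)
  have hDF2 : 2 * Nat.card D ≤ Nat.card F := by
    have := card_le_index hDF [1, u0]
      (by simp only [List.mem_cons, List.not_mem_nil, or_false, forall_eq_or_imp, forall_eq]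
          exact ⟨F.one_mem, hCF (hVC (h.cj_zsub_le_vsub hu0))⟩)
      (by simpa using hu0D)
    simpa using this
  -- the action of `a` on the three conjugates
  have ha1 : ∃ c ∈ C, a * v1 * a⁻¹ = v2 * c := by
    obtain ⟨b, hb, he⟩ := h.swap haB hac
    rcases hact b hb with e | e
    · refine ⟨1, C.one_mem, ?_⟩
      rw [mul_one, hv1, show a * (x * v * x⁻¹) * a⁻¹ = (a * x) * v * (a * x)⁻¹ by group, he,
        show x * x * b * v * (x * x * b)⁻¹ = x * x * (b * v * b⁻¹) * (x * x)⁻¹ by group, e,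
        mul_inv_cancel_right]
      exact hv2.symm
    · refine ⟨z2, hVC ?_, ?_⟩
      · rw [hz2, ← h.cj_vsub (H.mul_mem h.memH h.memH)]
        exact conj_mem_cj (h.zsub_le_vsub hztZ)
      · have e' : b * v * b⁻¹ = zt * v := by rw [← e, mul_assoc (b * v * b⁻¹), hvv, mul_one]
        rw [hv1, show a * (x * v * x⁻¹) * a⁻¹ = (a * x) * v * (a * x)⁻¹ by group, he,
          show x * x * b * v * (x * x * b)⁻¹ = x * x * (b * v * b⁻¹) * (x * x)⁻¹ by group, e',
          hv2, hz2, show x * x * (zt * v) * (x * x)⁻¹ =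
            (x * x * zt * (x * x)⁻¹) * (x * x * v * (x * x)⁻¹) by group]
        refine hUel.comm (hVU ?_) (hv2 ▸ hv2U)
        rw [← h.cj_vsub (H.mul_mem h.memH h.memH)]
        exact conj_mem_cj (h.zsub_le_vsub hztZ)
  obtain ⟨c1, hc1, hav1⟩ := ha1
  have hc1U := ((hCmem c1).1 hc1).1
  have ha0 : a * v * a⁻¹ * v ∈ C := by
    rcases hact a haB with e | e
    · rw [e, mul_inv_cancel_right, hvv]; exact C.one_mem
    · rw [e]; exact hVC (h.zsub_le_vsub hztZ)
  have hv12C : v1 * v2 ∉ C := by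
    intro hc
    have hq1 : x * q0 * x⁻¹ ∈ Q := hxQ ▸ conj_mem_cj hq0
    have e0 := ((hCmem _).1 hc).2 _ hq1
    rcases hact1 _ hq1 with e | e
    · refine hq0v ?_
      calc q0 * v = x⁻¹ * (x * q0 * x⁻¹ * v1) * x := by rw [hv1]; group
        _ = v * q0 := by rw [e, hv1]; group
    · set q := x * q0 * x⁻¹
      have e1 : (q * v1 * q⁻¹ * v1) * (q * v2 * q⁻¹ * v2) = 1 := by
        have hcm := hUel.comm (hconjU q (bcore_le hq1) v2 hv2U) hv1U
        calc (q * v1 * q⁻¹ * v1) * (q * v2 * q⁻¹ * v2)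
            = (q * v1 * q⁻¹) * (v1 * (q * v2 * q⁻¹)) * v2 := by group
          _ = (q * v1 * q⁻¹) * ((q * v2 * q⁻¹) * v1) * v2 := by rw [hcm]
          _ = q * (v1 * v2) * q⁻¹ * (v1 * v2) := by group
          _ = 1 := by rw [e0, mul_inv_cancel_right, hUel _ (U.mul_mem hv1U hv2U)]
      rw [e] at e1
      rcases hact2 _ hq1 with e2 | e2
      · rw [e2, mul_inv_cancel_right, hv22, mul_one] at e1
        exact hne1 e1
      · rw [e2] at e1
        refine hz12 ?_
        have : z2⁻¹ = z2 := inv_eq_of_mul_eq_one_right (by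
          rw [hz2, show x * x * zt * (x * x)⁻¹ * (x * x * zt * (x * x)⁻¹) =
            x * x * (zt * zt) * (x * x)⁻¹ by group, hztZ.2.1]
          group)
        rw [← this]
        exact eq_inv_of_mul_eq_one_left e1
  have hv1F : v1 ∉ F := by
    rintro ⟨-, hh, -⟩
    rw [hav1, mul_assoc, hUel.comm hc1U hv1U, ← mul_assoc] at hh
    rw [C.mul_mem_cancel_right hc1, hUel.comm hv2U hv1U] at hh
    exact hv12C hh
  have hv2F : v2 ∉ F := by
    intro hh
    have : v2 * c1 ∈ F := F.mul_mem hh (hCF hc1)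
    obtain ⟨-, hh', -⟩ := this
    have haai : a⁻¹ * a⁻¹ = 1 := by rw [hai, haa]
    rw [← hav1, show a * (a * v1 * a⁻¹) * a⁻¹ * (a * v1 * a⁻¹) =
      (a * a) * v1 * (a⁻¹ * a⁻¹) * (a * v1 * a⁻¹) by group, haa, haai, one_mul, mul_one, hav1,
      ← mul_assoc, C.mul_mem_cancel_right hc1] at hh'
    exact hv12C hh'
  -- elements of the offender in the core
  have he2 : ∀ e ∈ A0, e * v1 = v1 * e → e * v2 = v2 * e := by
    intro e he hh
    have hc := ((hCmem c1).1 hc1).2 e he.2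
    have hea : e * a = a * e := hA.2.1.comm he.1 haA
    have h2 : e * (v2 * c1) = (v2 * c1) * e := by
      rw [← hav1]
      calc e * (a * v1 * a⁻¹) = (e * a) * v1 * a⁻¹ := by group
        _ = a * (e * v1) * a⁻¹ := by rw [hea]; group
        _ = a * (v1 * e) * a⁻¹ := by rw [hh]
        _ = a * v1 * a⁻¹ * (a * e) * a⁻¹ := by group
        _ = a * v1 * a⁻¹ * e := by rw [← hea]; group
    rw [← mul_assoc, mul_assoc v2 c1 e, ← hc, ← mul_assoc] at h2
    exact mul_right_cancel h2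
  -- squares of the moving elements
  let Av : Subgroup G := A0 ⊓ centralizer ({v} : Set G)
  let Av1 : Subgroup G := A0 ⊓ centralizer ({v1} : Set G)
  let K : Subgroup G := Av ⊓ Av1
  have hprod : ∀ (w zz : G), w * w = 1 → (∀ q ∈ Q, q * zz = zz * q) → zz * zz = 1 →
      (∀ e ∈ A0, e * w = w * e ∨ e * w * e⁻¹ * w = zz) →
      Nat.card A0 ≤ 2 * Nat.card ↥(A0 ⊓ centralizer ({w} : Set G)) := by
    intro w zz hw hzz hzz2 hall
    refine card_le_two_mul_of_prod inf_le_left fun e he e' he' hn hn' => ?_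
    have r1 := (hall e he).resolve_left fun hh => hn ⟨he, mem_centralizer_singleton_iff.2 hh⟩
    have r2 := (hall e' he').resolve_left fun hh => hn' ⟨he', mem_centralizer_singleton_iff.2 hh⟩
    refine ⟨A0.mul_mem he he', mem_centralizer_singleton_iff.2 ?_⟩
    refine mul_inv_eq_iff_eq_mul.1 ?_
    have a1 : e * w * e⁻¹ = zz * w := by rw [← r1, mul_assoc (e * w * e⁻¹), hw, mul_one]
    have a2 : e' * w * e'⁻¹ = zz * w := by rw [← r2, mul_assoc (e' * w * e'⁻¹), hw, mul_one]
    have a3 : e * zz * e⁻¹ = zz := by rw [hzz e he.2, mul_inv_cancel_right]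
    rw [mul_inv_rev, show e * e' * w * (e'⁻¹ * e⁻¹) = e * (e' * w * e'⁻¹) * e⁻¹ by group, a2,
      show e * (zz * w) * e⁻¹ = (e * zz * e⁻¹) * (e * w * e⁻¹) by group, a3, a1, ← mul_assoc, hzz2,
      one_mul]
  have hz1V : z1 ∈ vsub B x := hz1 ▸ h.cj_vsub h.memH ▸ conj_mem_cj (h.zsub_le_vsub hztZ)
  have hI0 : Nat.card A0 ≤ 2 * Nat.card Av :=
    hprod v zt hvv (fun q hq => hztZ.2.2 q (bcore_le hq)) hztZ.2.1
      fun e he => hact e (bcore_le he.2)
  have hI1 : Nat.card A0 ≤ 2 * Nat.card Av1 :=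
    hprod v1 z1 hv11 (fun q hq => (h.core_comm z1 hz1V q hq).symm)
      (h.isEl_vsub z1 hz1V) fun e he => hact1 e he.2
  have hK4 : Nat.card A0 ≤ 4 * Nat.card K := by
    have hc := card_sup_mul_inf_ge Av Av1
    have hs : Nat.card ↥(Av ⊔ Av1) ≤ Nat.card A0 :=
      Subgroup.card_le_of_le (sup_le inf_le_left inf_le_left)
    have := hc.trans (Nat.mul_le_mul_right _ hs)
    have hp : 0 < Nat.card A0 := Nat.card_pos
    nlinarith [Nat.mul_le_mul hI0 hI1]
  -- `K` centralizes `U`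
  have hKU : ∀ e ∈ K, ∀ u ∈ U, e * u = u * e := by
    rintro e ⟨⟨he, hev⟩, ⟨-, hev1⟩⟩ u hu
    have e1 := mem_centralizer_singleton_iff.1 hev1
    have hgenY : ∀ (s : G), s ∈ H → e * (s * v * s⁻¹) = (s * v * s⁻¹) * e →
        cj s Y ≤ centralizer ({e} : Set G) := by
      rintro s hs hcomm _ ⟨w, hw, rfl⟩
      refine mem_centralizer_singleton_iff.2 ?_
      show s * w * s⁻¹ * e = e * (s * w * s⁻¹)
      have hzc' : ∀ y ∈ zsub B, e * (s * y * s⁻¹) = s * y * s⁻¹ * e := fun y hy =>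
        (h.core_comm _ ((h.cj_vsub hs) ▸ conj_mem_cj (h.zsub_le_vsub hy)) e he.2).symm
      rcases hYgen w hw with hwZ | hwZ
      · exact (hzc' w hwZ).symm
      · have e2 := hzc' _ hwZ
        have hw' : s * w * s⁻¹ = (s * v * s⁻¹) * (s * (v * w) * s⁻¹) := by
          rw [show (s * v * s⁻¹) * (s * (v * w) * s⁻¹) = s * ((v * v) * w) * s⁻¹ by group, hvv,
            one_mul]
        rw [hw', mul_assoc, ← e2, ← mul_assoc, ← hcomm, mul_assoc]
    have hcl : U ≤ centralizer ({e} : Set G) := by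
      refine sup_le (sup_le ?_ ?_) ?_
      · have := hgenY 1 H.one_mem (by simpa using mem_centralizer_singleton_iff.1 hev)
        rwa [cj_one] at this
      · exact hgenY x h.memH (hv1 ▸ e1)
      · exact hgenY _ (H.mul_mem h.memH h.memH) (hv2 ▸ he2 e he e1)
    exact (mem_centralizer_singleton_iff.1 (hcl hu)).symm
  have hKA0 : K ≤ A0 := inf_le_left.trans inf_le_left
  have hKel : IsEl (K ⊔ U) := isEl_sup (fun e he => hA.2.1 e (hKA0 he).1) hUel hKU
  have hKB : K ⊔ U ≤ B := sup_le ((hKA0.trans inf_le_left).trans hA.1) (hUQ.trans bcore_le)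
  have hmain : Nat.card K * Nat.card U ≤ Nat.card A * Nat.card D := by
    refine (card_sup_mul_inf_ge K U).trans (Nat.mul_le_mul (hA.2.2 _ hKB hKel) ?_)
    refine Subgroup.card_le_of_le fun u hu => (hDmem u).2 ⟨hu.2, fun e he => ?_⟩
    exact hA.2.1.comm he (hKA0 hu.1).1
  -- exclusions from an element of the offender
  have hexc : ∀ e ∈ A0, ∀ w : G, e * w ≠ w * e → w ∉ F := fun e he w hne hw => hne (hw.2.2 e he)
  have hFa : ∀ w : G, w ∈ F → a * w * a⁻¹ * w ∈ C := fun w hw => hw.2.1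
  have hv01F : v * v1 ∉ F := by
    intro hh
    have e := hFa _ hh
    have hcm := hUel.comm (hconjU a haB v1 hv1U) hv0U
    rw [show a * (v * v1) * a⁻¹ * (v * v1) = (a * v * a⁻¹) * ((a * v1 * a⁻¹) * v) * v1 by group,
      hcm, show (a * v * a⁻¹) * (v * (a * v1 * a⁻¹)) * v1 = (a * v * a⁻¹ * v) * (a * v1 * a⁻¹ * v1)
        by group, C.mul_mem_cancel_left ha0, hav1, mul_assoc, hUel.comm hc1U hv1U, ← mul_assoc,
      C.mul_mem_cancel_right hc1, hUel.comm hv2U hv1U] at e
    exact hv12C e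
  have hv1v1 : v1⁻¹ = v1 := inv_eq_of_mul_eq_one_right hv11
  have hvi : v⁻¹ = v := inv_eq_of_mul_eq_one_right hvv
  by_cases hM1 : ∃ e ∈ A0, e * v1 ≠ v1 * e
  · obtain ⟨e1, he1, he1v⟩ := hM1
    -- `e1` moves `v1 v2`
    have he12 : v1 * v2 ∉ F := by
      intro hh
      have e0 := hh.2.2 e1 he1
      rcases hact1 e1 he1.2 with e | e
      · exact he1v e
      rcases hact2 e1 he1.2 with e2 | e2
      · refine he1v (mul_right_cancel (b := v2) ?_)
        rw [mul_assoc, e0, mul_assoc v1 v2, ← e2, mul_assoc]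
      · refine hz12 ?_
        have hcm := hUel.comm (hconjU e1 (bcore_le he1.2) v2 hv2U) hv1U
        have h1 : z1 * z2 = 1 := by
          rw [← e, ← e2]
          calc (e1 * v1 * e1⁻¹ * v1) * (e1 * v2 * e1⁻¹ * v2)
              = (e1 * v1 * e1⁻¹) * (v1 * (e1 * v2 * e1⁻¹)) * v2 := by group
            _ = (e1 * v1 * e1⁻¹) * ((e1 * v2 * e1⁻¹) * v1) * v2 := by rw [hcm]
            _ = e1 * (v1 * v2) * e1⁻¹ * (v1 * v2) := by group
            _ = 1 := by rw [e0, mul_inv_cancel_right, hUel _ (U.mul_mem hv1U hv2U)]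
        rw [← inv_eq_of_mul_eq_one_right (h.isEl_vsub z1 hz1V)]
        exact inv_eq_of_mul_eq_one_right h1
    by_cases hM0 : ∃ e ∈ A0, e * v ≠ v * e ∧ e * v1 = v1 * e
    · -- index at least five
      obtain ⟨e0, he0, he0v, he0v1⟩ := hM0
      have he0v2 := he2 e0 he0 he0v1
      have hvF : v ∉ F := hexc e0 he0 v he0v
      have h012 : v * (v1 * v2) ∉ F := fun hh => by
        have e := hh.2.2 e0 he0
        refine he0v (mul_right_cancel (b := v1 * v2) ?_)
        rw [mul_assoc, e, mul_assoc v (v1 * v2), mul_assoc v1 v2, ← he0v2, ← mul_assoc v1,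
          ← he0v1, mul_assoc, mul_assoc]
      have h02 : v * v2 ∉ F := fun hh => by
        have e := hh.2.2 e0 he0
        refine he0v (mul_right_cancel (b := v2) ?_)
        rw [mul_assoc, e, mul_assoc v v2, ← he0v2, mul_assoc]
      have hidx := card_le_index hFU [1, v, v1 * v2, v * (v1 * v2), v1]
        (by simp only [List.mem_cons, List.not_mem_nil, or_false, forall_eq_or_imp, forall_eq]
            exact ⟨U.one_mem, hv0U, U.mul_mem hv1U hv2U, U.mul_mem hv0U (U.mul_mem hv1U hv2U), hv1U⟩)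
        (by
          simp only [List.pairwise_cons, List.mem_cons, List.not_mem_nil, or_false,
            forall_eq_or_imp, forall_eq, List.Pairwise.nil, and_true, inv_one, one_mul,
            IsEmpty.forall_iff, implies_true]
          refine ⟨⟨hvF, he12, h012, hv1F⟩, ⟨?_, ?_, ?_⟩, ⟨?_, ?_⟩, ?_⟩
          · rw [hvi]; exact h012
          · rw [inv_mul_cancel_left]; exact he12
          · rw [hvi]; exact hv01F
          · rw [← mul_assoc, hUel.comm (U.inv_mem (U.mul_mem hv1U hv2U)) hv0U, mul_assoc,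
              inv_mul_cancel, mul_one]
            exact hvF
          · rw [mul_inv_rev, hv1v1, inv_eq_of_mul_eq_one_right hv22, mul_assoc, hv11, mul_one]
            exact hv2F
          · rw [hUel.inv_eq (U.mul_mem hv0U (U.mul_mem hv1U hv2U)),
              show v * (v1 * v2) * v1 = v * (v1 * v2 * v1) by group, hUel.comm hv1U hv2U, mul_assoc v2,
              hv11, mul_one]
            exact h02)
      simp only [List.length_cons, List.length_nil] at hidx
      have hdp : 0 < Nat.card D := Nat.card_pos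
      have hkp : 0 < Nat.card K := Nat.card_pos
      nlinarith [Nat.mul_le_mul_right (Nat.card D) (hA2.trans (Nat.mul_le_mul_left 2 hK4)),
        Nat.mul_le_mul_left (Nat.card K) (Nat.mul_le_mul_left 5 hDF2), Nat.mul_pos hdp hkp]
    · -- index at least three
      have hKeq : Nat.card A0 ≤ 2 * Nat.card K := hI1.trans (Nat.mul_le_mul_left 2
        (Subgroup.card_le_of_le fun e he => ⟨⟨he.1, mem_centralizer_singleton_iff.2 (by
          by_contra hn
          exact hM0 ⟨e, he.1, hn, mem_centralizer_singleton_iff.1 he.2⟩)⟩, he⟩))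
      have hidx := card_le_index hFU [1, v1, v1 * v2]
        (by simp only [List.mem_cons, List.not_mem_nil, or_false, forall_eq_or_imp, forall_eq]
            exact ⟨U.one_mem, hv1U, U.mul_mem hv1U hv2U⟩)
        (by
          simp only [List.pairwise_cons, List.mem_cons, List.not_mem_nil, or_false,
            forall_eq_or_imp, forall_eq, List.Pairwise.nil, and_true, inv_one, one_mul,
            IsEmpty.forall_iff, implies_true]
          exact ⟨⟨hv1F, he12⟩, by rw [inv_mul_cancel_left]; exact hv2F⟩)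
      simp only [List.length_cons, List.length_nil] at hidx
      have hdp : 0 < Nat.card D := Nat.card_pos
      have hkp : 0 < Nat.card K := Nat.card_pos
      nlinarith [Nat.mul_le_mul_right (Nat.card D) (hA2.trans (Nat.mul_le_mul_left 2 hKeq)),
        Nat.mul_le_mul_left (Nat.card K) (Nat.mul_le_mul_left 3 hDF2), Nat.mul_pos hdp hkp]
  · have hall1 : A0 ≤ Av1 := fun e he => ⟨he, mem_centralizer_singleton_iff.2 (by
      by_contra hn
      exact hM1 ⟨e, he, hn⟩)⟩
    by_cases hM0 : ∃ e ∈ A0, e * v ≠ v * e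
    · obtain ⟨e0, he0, he0v⟩ := hM0
      have hKeq : Nat.card A0 ≤ 2 * Nat.card K := hI0.trans (Nat.mul_le_mul_left 2
        (Subgroup.card_le_of_le fun e he => ⟨he, hall1 he.1⟩))
      have hidx := card_le_index hFU [1, v, v1]
        (by simp only [List.mem_cons, List.not_mem_nil, or_false, forall_eq_or_imp, forall_eq]
            exact ⟨U.one_mem, hv0U, hv1U⟩)
        (by
          simp only [List.pairwise_cons, List.mem_cons, List.not_mem_nil, or_false,
            forall_eq_or_imp, forall_eq, List.Pairwise.nil, and_true, inv_one, one_mul,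
            IsEmpty.forall_iff, implies_true]
          exact ⟨⟨hexc e0 he0 v he0v, hv1F⟩, by rw [hvi]; exact hv01F⟩)
      simp only [List.length_cons, List.length_nil] at hidx
      have hdp : 0 < Nat.card D := Nat.card_pos
      have hkp : 0 < Nat.card K := Nat.card_pos
      nlinarith [Nat.mul_le_mul_right (Nat.card D) (hA2.trans (Nat.mul_le_mul_left 2 hKeq)),
        Nat.mul_le_mul_left (Nat.card K) (Nat.mul_le_mul_left 3 hDF2), Nat.mul_pos hdp hkp]
    · have hKeq : Nat.card A0 ≤ Nat.card K := Subgroup.card_le_of_le fun e he =>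
        ⟨⟨he, mem_centralizer_singleton_iff.2 (by
          by_contra hn
          exact hM0 ⟨e, he, hn⟩)⟩, hall1 he⟩
      have hidx := card_le_index hFU [1, v1]
        (by simp only [List.mem_cons, List.not_mem_nil, or_false, forall_eq_or_imp, forall_eq]
            exact ⟨U.one_mem, hv1U⟩)
        (by simpa using hv1F)
      simp only [List.length_cons, List.length_nil] at hidx
      have hdp : 0 < Nat.card D := Nat.card_pos
      have hkp : 0 < Nat.card K := Nat.card_pos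
      nlinarith [Nat.mul_le_mul_right (Nat.card D) (hA2.trans (Nat.mul_le_mul_left 2 hKeq)),
        Nat.mul_le_mul_left (Nat.card K) (Nat.mul_le_mul_left 2 hDF2), Nat.mul_pos hdp hkp]

end CfsgLib.Char.SuborbitThree
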