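import Cfsg.Agent.Lib.Char.SuborbitThree.Local

/-!
# The case of a conjugate module outside the core
-/

set_option autoImplicit false
set_option linter.unusedSectionVars false

namespace CfsgLib.Char.SuborbitThree

open Subgroup

universe u

variable {G : Type u} [Group G] [Finite G] {H B : Subgroup G} {g : G} {k : ℕ} {x : G}

/-- The commutators of `B` with a conjugate of `V`. -/
theorem Cons.gen_conj (h : Cons H B g k x) {z : G}
    (hz : ∀ b ∈ B, b ∉ bcore H B → ∀ u ∈ vsub B x, u ∉ zsub B → b * u * b⁻¹ * u = z)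
    {t : G} (ht : cj t B = B) {b u : G} (hb : b ∈ B) (hu : u ∈ cj t (vsub B x)) :
    (b * u = u * b ∧ (b ∈ cj t (bcore H B) ∨ u ∈ zsub B)) ∨
      (b * u * b⁻¹ * u = t * z * t⁻¹ ∧ b ∉ cj t (bcore H B)) := by
  rw [mem_cj] at hu
  have hb' : t⁻¹ * b * t ∈ B := mem_cj.1 (ht.symm ▸ hb)
  by_cases hbc : b ∈ cj t (bcore H B)
  · left
    refine ⟨?_, Or.inl hbc⟩
    have := h.core_comm _ hu _ (mem_cj.1 hbc)
    calc b * u = t * ((t⁻¹ * b * t) * (t⁻¹ * u * t)) * t⁻¹ := by group
      _ = u * b := by rw [← this]; group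
  by_cases huz : u ∈ zsub B
  · exact Or.inl ⟨huz.2.2 b hb, Or.inr huz⟩
  right
  refine ⟨?_, hbc⟩
  have := hz _ hb' (fun hc => hbc (mem_cj.2 hc)) _ hu
    (fun hc => huz (cj_zsub ht ▸ mem_cj.2 hc))
  rw [← this]
  group

theorem Cons.vsub_eq (h : Cons H B g k x) {y : G} (h' : Cons H B g k y) :
    vsub B y = vsub B x := by
  have key : ∀ {x y : G}, Cons H B g k x → Cons H B g k y → vsub B y ≤ vsub B x := by
    intro x y h h'
    refine sup_le (sup_le h.zsub_le_vsub ?_) ?_
    · exact (cj_mono h.zsub_le_vsub).trans_eq (h.cj_vsub h'.memH)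
    · exact (cj_mono h.zsub_le_vsub).trans_eq (h.cj_vsub (H.mul_mem h'.memH h'.memH))
  exact le_antisymm (key h h') (key h' h)

/-- An element of order three inverted by a given involution outside the core. -/
theorem Data.exists_inverted (h : Data H B g k x) {v : G} (hvB : v ∈ B) (hvc : v ∉ bcore H B)
    (hvv : v * v = 1) : ∃ y ∈ H, orderOf y = 3 ∧ v * y * v = y⁻¹ := by
  obtain ⟨b, hb, he⟩ := h.swap hvB hvc
  have hvi : v⁻¹ = v := inv_eq_of_mul_eq_one_right hvv
  set v' := x * v * x⁻¹ with hv'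
  have hv'e : v' = b * x := by
    calc v' = x * (v * x) * (x⁻¹ * x⁻¹) := by rw [hv']; group
      _ = x * (x * x * b) * x := by
        rw [he, show x⁻¹ * x⁻¹ = x by rw [h.inv_eq, show x * x * (x * x) = x * x * x * x by group,
          h.pow_three, one_mul]]
      _ = b * x := by
        rw [show x * (x * x * b) * x = (x * x * x) * (b * x) by group, h.pow_three, one_mul]
  have hv'v : v' * v' = 1 := by
    rw [hv', show x * v * x⁻¹ * (x * v * x⁻¹) = x * (v * v) * x⁻¹ by group, hvv]; group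
  have hv'H : v' ∈ H := H.mul_mem (H.mul_mem h.memH (h.le hvB)) (H.inv_mem h.memH)
  set s := v * v' with hs
  have hsH : s ∈ H := H.mul_mem (h.le hvB) hv'H
  have hinv : v * s * v = s⁻¹ := by
    rw [hs, mul_inv_rev, inv_eq_of_mul_eq_one_right hv'v, hvi,
      show v * (v * v') * v = (v * v) * (v' * v) by group, hvv, one_mul]
  have hc : ∀ n : ℕ, v * s ^ n * v = (s ^ n)⁻¹ := fun n => by
    rw [← inv_pow, ← hinv]
    have := (conj_pow (a := v) (b := s) (i := n)).symm
    rwa [hvi] at this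
  refine ⟨s ^ (2 ^ k), H.pow_mem hsH _, ?_, hc _⟩
  have h3 : (s ^ 2 ^ k) ^ 3 = 1 := by
    rw [← pow_mul, mul_comm, ← h.cardH]
    exact congrArg Subtype.val (pow_card_eq_one' (G := H) (x := ⟨s, hsH⟩))
  haveI : Fact (Nat.Prime 3) := ⟨Nat.prime_three⟩
  refine orderOf_eq_prime h3 fun h1 => ?_
  -- otherwise the square of `s` lies in the core
  haveI : ((bcore H B).subgroupOf H).Normal := ⟨fun c hc a => by
    rw [mem_subgroupOf] at hc ⊢
    rw [coe_mul, coe_mul, coe_inv, ← cj_bcore (B := B) a.2]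
    exact conj_mem_cj hc⟩
  have hidx : ((bcore H B).subgroupOf H).index ∣ 6 := by
    have hle : bcore H B ≤ H := bcore_le.trans h.le
    have e := ((bcore H B).subgroupOf H).card_mul_index
    rw [Nat.card_congr (subgroupOfEquivOfLe hle).toEquiv, h.cardH] at e
    have hd : Nat.card (bcore H B) ∣ 2 ^ k := h.cardB ▸ Subgroup.card_dvd_of_le bcore_le
    obtain ⟨j, hj, hj'⟩ := (Nat.dvd_prime_pow Nat.prime_two).1 hd
    have hB := h.card_B_le
    rw [h.cardB, hj'] at hB
    rw [hj'] at e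
    have hjk : k ≤ j + 1 := (Nat.pow_le_pow_iff_right one_lt_two).1 (by rw [pow_succ]; omega)
    rcases (by omega : k = j ∨ k = j + 1) with rfl | rfl
    · exact ⟨2, by rw [Nat.eq_of_mul_eq_mul_left (Nat.two_pow_pos k) (e.trans (mul_comm 3 _))]⟩
    · rw [pow_succ, show 3 * (2 ^ j * 2) = 2 ^ j * 6 by ring] at e
      rw [Nat.eq_of_mul_eq_mul_left (Nat.two_pow_pos j) e]
  set q := QuotientGroup.mk' ((bcore H B).subgroupOf H) ⟨s, hsH⟩ with hq
  have d1 : orderOf q ∣ 6 := ((orderOf_dvd_natCard q).trans (by rw [← Subgroup.index_eq_card])).trans hidx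
  have d2 : orderOf q ∣ 2 ^ k := orderOf_dvd_of_pow_eq_one (by
    rw [hq, ← map_pow]
    convert map_one (QuotientGroup.mk' ((bcore H B).subgroupOf H))
    exact Subtype.ext (by simpa using h1))
  have d3 : orderOf q ∣ 2 := by
    refine (((Nat.Coprime.pow_left k (by norm_num)) : Nat.Coprime (2 ^ k) 3).of_dvd_left d2).dvd_of_dvd_mul_right ?_
    exact d1.trans (dvd_of_eq (by norm_num))
  have hs2 : s * s ∈ bcore H B := by
    have := orderOf_dvd_iff_pow_eq_one.1 d3
    rw [pow_two, hq, ← map_mul, QuotientGroup.mk'_apply, QuotientGroup.eq_one_iff] at this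
    exact this
  have h5 : v' * v * v' ∈ B := by
    have := B.mul_mem hvB (bcore_le hs2)
    rwa [hs, show v * (v * v' * (v * v')) = (v * v) * (v' * v * v') by group, hvv, one_mul] at this
  have h6 : x * v * x⁻¹ ∈ B := by
    have e : v' * v * v' = b * (x * v * x⁻¹) * b⁻¹ := by
      nth_rw 2 [← inv_eq_of_mul_eq_one_right hv'v]
      rw [hv'e]
      group
    rw [e] at h5
    exact (B.mul_mem_cancel_left hb).1 ((B.mul_mem_cancel_right (B.inv_mem hb)).1 h5)
  rw [← hv', hv'e, B.mul_mem_cancel_left hb] at h6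
  exact h.three_notMem h.order h6

theorem Cons.change (h : Cons H B g k x) {y : G} (hy : y ∈ H) (ho : orderOf y = 3) :
    Cons H B g k y :=
  { h with memH := hy, order := ho }

/-- The structure of the stabilizer when a conjugate of `V` leaves the core. -/
theorem Cons.one_step' (h : Cons H B g k x) {t : G} (htB : cj t B = B) (htH : t ∉ H) {v : G}
    (hv : v ∈ cj t (vsub B x)) (hvc : v ∉ bcore H B) (hinv : v * x * v = x⁻¹) :
    Nonempty (H ≃* Equiv.Perm (Fin 4)) ∨
      Nonempty (H ≃* Equiv.Perm (Fin 4) × Multiplicative (ZMod 2)) := by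
  classical
  obtain ⟨z, hzZ, hzc, hz⟩ := h.exists_gen
  set Q := bcore H B with hQ
  have htV : cj t (vsub B x) ≤ B := ((cj_mono (h.vsub_le.trans bcore_le)).trans_eq htB)
  have hvB : v ∈ B := htV hv
  have el := h.isEl_vsub
  have hvv : v * v = 1 := by
    obtain ⟨u, hu, rfl⟩ := hv
    rw [← map_mul, el u hu, map_one]
  have hvi : v⁻¹ = v := inv_eq_of_mul_eq_one_right hvv
  have hvZ : v ∉ zsub B := fun hz' => hvc (h.zsub_le hz')
  have hz1 : z ≠ 1 := fun e => hzc (e ▸ (csub B x).one_mem)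
  have hzz : z * z = 1 := hzZ.2.1
  have hxi : x⁻¹ * x⁻¹ = x := by
    rw [h.inv_eq, show x * x * (x * x) = x * x * x * x by group, h.pow_three, one_mul]
  -- the two generators coincide
  obtain ⟨u0, hu0, hu0Z⟩ := h.zsub_lt
  have hu0V := h.cj_zsub_le_vsub hu0
  have hzt : t * z * t⁻¹ = z := by
    have e1 := hz v hvB hvc u0 hu0V hu0Z
    rcases h.gen_conj hz htB (bcore_le (h.vsub_le hu0V)) hv with ⟨e2, -⟩ | ⟨e2, -⟩
    · refine absurd ?_ hz1
      rw [← e1, ← e2, mul_inv_cancel_right]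
      exact el u0 hu0V
    · rw [← e2, ← inv_eq_of_mul_eq_one_right hzz, ← e1]
      rw [hvi, inv_eq_of_mul_eq_one_right (el u0 hu0V)]
      simp only [mul_inv_rev, hvi, inv_eq_of_mul_eq_one_right (el u0 hu0V), mul_assoc]
  have hQv : ∀ q ∈ Q, q * v = v * q ∨ q * v * q⁻¹ * v = z := fun q hq =>
    (h.gen_conj hz htB (bcore_le hq) hv).imp (·.1) fun e => e.1.trans hzt
  -- the three conjugates of `z`
  have hzV := h.zsub_le_vsub hzZ
  set z' := x * z * x⁻¹ with hz'
  set z'' := x⁻¹ * z * x with hz''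
  have hz'V : z' ∈ vsub B x := h.cj_vsub h.memH ▸ conj_mem_cj hzV
  have hz''V : z'' ∈ vsub B x := mem_cj.1 ((h.cj_vsub h.memH).symm ▸ hzV)
  have hzx : x * z ≠ z * x := fun e => hzc ⟨hzZ, mem_centralizer_singleton_iff.2 e.symm⟩
  have hne : z' ≠ z := fun e => hzx (mul_inv_eq_iff_eq_mul.1 e)
  have hvz : v * z * v⁻¹ = z := by rw [hzZ.2.2 v hvB, mul_inv_cancel_right]
  have hxv : v * x = x⁻¹ * v := by
    rw [← hinv, mul_assoc, hvv, mul_one]
  have hxv' : v * x⁻¹ = x * v := by
    rw [← hinv, ← mul_assoc, ← mul_assoc, hvv, one_mul]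
  have hvz' : v * z' * v⁻¹ = z'' := by
    rw [hz', show v * (x * z * x⁻¹) * v⁻¹ = (v * x) * z * (v * x)⁻¹ by group, hxv,
      show x⁻¹ * v * z * (x⁻¹ * v)⁻¹ = x⁻¹ * (v * z * v⁻¹) * x by group, hvz]
  have hz'Z : z' ∉ zsub B := by
    intro hc
    have hm := h.mem_csub_of hc (conj_mem_cj hzZ)
    have e := mem_centralizer_singleton_iff.1 hm.2
    refine hne ?_
    calc z' = x⁻¹ * (x * z') := by group
      _ = x⁻¹ * (z' * x) := by rw [e]
      _ = z := by rw [hz']; group
  have hsum : z'' = z * z' := by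
    have e := hz v hvB hvc z' hz'V hz'Z
    rw [hvz'] at e
    rw [← e, mul_assoc, el z' hz'V, mul_one]
  have hxz' : x * z' * x⁻¹ = z'' := by
    rw [hz', show x * (x * z * x⁻¹) * x⁻¹ = (x * x) * z * (x * x)⁻¹ by group, ← h.inv_eq, inv_inv,
      hz'']
  -- the four group
  let W : Subgroup G :=
    { carrier := {w | w = 1 ∨ w = z ∨ w = z' ∨ w = z''}
      one_mem' := Or.inl rfl
      mul_mem' := by
        have ez := el z' hz'V
        have ec := el.comm hzV hz'V
        rintro a b (ha | ha | ha | ha) (hb | hb | hb | hb) <;> rw [ha, hb] <;>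
          simp only [Set.mem_setOf_eq, one_mul, mul_one, hsum, hzz, ez,
            ← mul_assoc, show z' * z = z * z' from ec.symm,
            show z * z' * z = z' by rw [ec, mul_assoc, hzz, mul_one],
            show z * z' * z' = z by rw [mul_assoc, ez, mul_one],
            show z' * z * z' = z by rw [← ec, mul_assoc, ez, mul_one]] <;>
          simp
      inv_mem' := by
        rintro a (ha | ha | ha | ha) <;> rw [ha]
        · exact Or.inl inv_one
        · exact Or.inr (Or.inl (el.inv_eq hzV))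
        · exact Or.inr (Or.inr (Or.inl (el.inv_eq hz'V)))
        · exact Or.inr (Or.inr (Or.inr (el.inv_eq hz''V))) }
  have hWV : W ≤ vsub B x := by
    rintro a (ha | ha | ha | ha) <;> rw [ha]
    exacts [(vsub B x).one_mem, hzV, hz'V, hz''V]
  have hWQ : W ≤ Q := hWV.trans h.vsub_le
  have hWfix : ∀ w ∈ W, x * w = w * x → w = 1 := by
    rintro w (hw | hw | hw | hw) e <;> rw [hw] at e ⊢
    · exact absurd e hzx
    · refine absurd ?_ hne
      have e' : x * z' * x⁻¹ = z' := by rw [e, mul_inv_cancel_right]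
      calc z' = x * z * x⁻¹ := hz'
        _ = x⁻¹ * (x * z' * x⁻¹) * x := by rw [hz']; group
        _ = x⁻¹ * z' * x := by rw [e']
        _ = z := by rw [hz']; group
    · refine absurd ?_ hzx
      have e' : x * z'' = z'' * x := e
      rw [hz''] at e'
      calc x * z = x * (x * (x⁻¹ * z * x)) * x⁻¹ := by group
        _ = x * (x⁻¹ * z * x * x) * x⁻¹ := by rw [e']
        _ = z * x := by group
  have hWcard : Nat.card W = 4 := by
    have e1 : z'' ≠ z := fun e => hne (by
      rw [hsum] at e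
      have : z' = 1 := mul_eq_left.1 e
      exact absurd (hWfix z' (Or.inr (Or.inr (Or.inl rfl))) (by rw [this]; group))
        (fun e1 => hz1 (by rw [hz'] at e1; exact conj_eq_one_iff.1 e1)))
    have e2 : z'' ≠ z' := fun e => hz1 (by
      rw [hsum] at e
      exact mul_eq_right.1 e)
    have e3 : z' ≠ 1 := fun e => hz1 (conj_eq_one_iff.1 (hz' ▸ e))
    have e4 : z'' ≠ 1 := fun e => hne (by
      rw [hsum, mul_eq_one_iff_eq_inv, inv_eq_of_mul_eq_one_right (el z' hz'V)] at e
      exact e.symm)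
    have hset : (W : Set G) = (({1, z, z', z''} : Finset G) : Set G) := by
      ext w
      simp only [Finset.coe_insert, Finset.coe_singleton, Set.mem_insert_iff, Set.mem_singleton_iff]
      rfl
    rw [← SetLike.coe_sort_coe, hset, Nat.card_coe_set_eq, Set.ncard_coe_finset,
      Finset.card_insert_of_notMem (by simp [Ne.symm hz1, Ne.symm e3, Ne.symm e4]),
      Finset.card_insert_of_notMem (by simp [Ne.symm hne, Ne.symm e1]),
      Finset.card_insert_of_notMem (by simp [Ne.symm e2]), Finset.card_singleton]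
  -- the centralizer part
  set v' := x * v * x⁻¹ with hv'
  let C : Subgroup G := Q ⊓ centralizer ({v} : Set G)
  let R : Subgroup G := Q ⊓ centralizer ({v, x} : Set G)
  have hRmem : ∀ r, r ∈ R ↔ r ∈ Q ∧ v * r = r * v ∧ x * r = r * x := fun r => by
    simp only [R, mem_inf, mem_centralizer_iff, Set.mem_insert_iff, Set.mem_singleton_iff,
      forall_eq_or_imp, forall_eq]
  have hRW : R ⊓ W = ⊥ := by
    rw [eq_bot_iff]
    rintro w ⟨hw, hwW⟩
    exact hWfix w hwW ((hRmem w).1 hw).2.2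
  have hxQ : ∀ q ∈ Q, x⁻¹ * q * x ∈ Q := fun q hq =>
    mem_cj.1 ((cj_bcore (B := B) h.memH).symm ▸ hq)
  have hsplit : ∀ q ∈ Q, ∃ w ∈ W, ∃ r ∈ R, q = w * r := by
    have hCC : C ⊓ cj x C ≤ R := by
      rintro q ⟨⟨hqQ, hqv⟩, hq'⟩
      refine (hRmem q).2 ⟨hqQ, (mem_centralizer_singleton_iff.1 hqv).symm, ?_⟩
      have e1 := mem_centralizer_singleton_iff.1 hqv
      have e2 := mem_centralizer_singleton_iff.1 (mem_cj.1 hq').2
      -- `q` commutes with `v' v = x * x`
      have e3 : (x * v * x⁻¹) * v = x * x := by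
        rw [mul_assoc x v x⁻¹, hxv', mul_assoc, mul_assoc, hvv, mul_one]
      have e5 : q * (x * v * x⁻¹) = x * v * x⁻¹ * q := by
        calc q * (x * v * x⁻¹) = x * (x⁻¹ * q * x * v) * x⁻¹ := by group
          _ = _ := by rw [e2]; group
      have e4 : q * (x * x) = x * x * q := by
        rw [← e3, ← mul_assoc, e5, mul_assoc, e1, ← mul_assoc]
      rw [← h.inv_eq] at e4
      have e6 : q * x⁻¹ * x = x⁻¹ * q * x := by rw [e4]
      calc x * q = x * (q * x⁻¹ * x) := by rw [inv_mul_cancel_right]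
        _ = q * x := by rw [e6]; group
    have h2C : Nat.card Q ≤ 2 * Nat.card C :=
      card_le_two_mul_of_prod inf_le_left fun e he e' he' hn hn' => by
        have r1 := (hQv e he).resolve_left fun hh => hn ⟨he, mem_centralizer_singleton_iff.2 hh⟩
        have r2 := (hQv e' he').resolve_left fun hh => hn' ⟨he', mem_centralizer_singleton_iff.2 hh⟩
        refine ⟨Q.mul_mem he he', mem_centralizer_singleton_iff.2 ?_⟩
        have a1 : e * v * e⁻¹ = z * v := by rw [← r1, mul_assoc (e * v * e⁻¹), hvv, mul_one]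
        have a2 : e' * v * e'⁻¹ = z * v := by rw [← r2, mul_assoc (e' * v * e'⁻¹), hvv, mul_one]
        have a3 : e * z * e⁻¹ = z := by rw [hzZ.2.2 e (bcore_le he), mul_inv_cancel_right]
        refine mul_inv_eq_iff_eq_mul.1 ?_
        rw [mul_inv_rev, show e * e' * v * (e'⁻¹ * e⁻¹) = e * (e' * v * e'⁻¹) * e⁻¹ by group, a2,
          show e * (z * v) * e⁻¹ = (e * z * e⁻¹) * (e * v * e⁻¹) by group, a3, a1,
          ← mul_assoc, hzz, one_mul]
    have hCQ : cj x C ≤ Q := (cj_mono inf_le_left).trans_eq (cj_bcore h.memH)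
    have hcap := card_sup_mul_inf_ge C (cj x C)
    have hsup : Nat.card ↥(C ⊔ cj x C) ≤ Nat.card Q :=
      Subgroup.card_le_of_le (sup_le inf_le_left hCQ)
    have hR' : Nat.card ↥(C ⊓ cj x C) ≤ Nat.card R := Subgroup.card_le_of_le hCC
    rw [card_cj] at hcap
    have hbig : Nat.card Q ≤ 4 * Nat.card R := by
      have := hcap.trans (Nat.mul_le_mul hsup hR')
      have hq0 : 0 < Nat.card Q := Nat.card_pos
      nlinarith [Nat.mul_le_mul h2C h2C]
    let f : W × R → Q := fun p => ⟨p.1 * p.2, Q.mul_mem (hWQ p.1.2) ((hRmem _).1 p.2.2).1⟩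
    have hf : Function.Injective f := by
      rintro ⟨⟨w, hw⟩, ⟨r, hr⟩⟩ ⟨⟨w', hw'⟩, ⟨r', hr'⟩⟩ e
      have e' : w * r = w' * r' := congrArg Subtype.val e
      have e2 : w'⁻¹ * w = r' * r⁻¹ := by
        rw [eq_mul_inv_iff_mul_eq, mul_assoc, e']; group
      have h0 : w'⁻¹ * w ∈ R ⊓ W :=
        ⟨e2.symm ▸ R.mul_mem hr' (R.inv_mem hr), W.mul_mem (W.inv_mem hw') hw⟩
      rw [hRW, mem_bot, inv_mul_eq_one] at h0
      subst h0
      rw [mul_right_inj] at e'
      subst e'
      rfl
    have hbij : Function.Bijective f := hf.bijective_of_nat_card_le (by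
      rw [Nat.card_prod, hWcard]; exact hbig)
    intro q hq
    obtain ⟨⟨w, r⟩, e⟩ := hbij.2 ⟨q, hq⟩
    exact ⟨w, w.2, r, r.2, (congrArg Subtype.val e).symm⟩
  have hWcomm : ∀ w ∈ W, ∀ q ∈ Q, w * q = q * w := fun w hw q hq =>
    h.core_comm w (hWV hw) q hq
  -- squares
  have hRel : IsEl R := by
    set D := Subgroup.closure {d : G | ∃ r ∈ R, r * r = d} with hD
    have hDH : D ≤ H := (Subgroup.closure_le _).2 fun d ⟨r, hr, e⟩ =>
      e ▸ h.le (B.mul_mem (bcore_le ((hRmem r).1 hr).1) (bcore_le ((hRmem r).1 hr).1))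
    have hsq : ∀ q ∈ Q, q * q ∈ D := fun q hq => by
      obtain ⟨w, hw, r, hr, rfl⟩ := hsplit q hq
      refine subset_closure ⟨r, hr, ?_⟩
      have hrQ := ((hRmem r).1 hr).1
      rw [show w * r * (w * r) = w * (r * w) * r by group, ← hWcomm w hw r hrQ,
        show w * (w * r) * r = (w * w) * (r * r) by group, el w (hWV hw), one_mul]
    have hDnorm : ∀ a ∈ H, cj a D = D := by
      have key : ∀ a ∈ H, cj a D ≤ D := by
        intro a ha
        rw [cj_le_iff, hD, Subgroup.closure_le]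
        rintro _ ⟨r, hr, rfl⟩
        rw [SetLike.mem_coe, mem_cj, inv_inv, show a * (r * r) * a⁻¹ =
          (a * r * a⁻¹) * (a * r * a⁻¹) by group]
        exact hsq _ ((cj_bcore (B := B) ha).le (conj_mem_cj ((hRmem r).1 hr).1))
      exact fun a ha => le_antisymm (key a ha) ((cj_le_iff (g := a⁻¹)).1 (key a⁻¹ (H.inv_mem ha))
        |>.trans_eq (by rw [inv_inv]))
    -- squares of the conjugate core
    have hRt : ∀ r ∈ R, r ∈ cj t Q := fun r hr => by
      rcases h.gen_conj hz htB (bcore_le ((hRmem r).1 hr).1) hv with ⟨-, h1 | h1⟩ | ⟨e, -⟩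
      · exact h1
      · exact absurd h1 hvZ
      · refine absurd ?_ hz1
        rw [← hzt, ← e, ← ((hRmem r).1 hr).2.1, mul_inv_cancel_right, hvv]
    have hsqt : ∀ q ∈ cj t Q, q * q ∈ D := by
      intro q hq
      have hqB : q ∈ B := htB ▸ cj_mono bcore_le hq
      have hqv : q * v = v * q := by
        rcases h.gen_conj hz htB hqB hv with ⟨e, -⟩ | ⟨-, e⟩
        · exact e
        · exact absurd hq e
      by_cases hqc : q ∈ Q
      · exact hsq q hqc
      · obtain ⟨c, hc⟩ : ∃ c, q = v * c := ⟨v * q, by rw [← mul_assoc, hvv, one_mul]⟩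
        have hcQ : c ∈ Q := by
          have := h.toData.mul_mem_core hvB hvc hqB hqc
          rwa [hc, ← mul_assoc, hvv, one_mul] at this
        have hcv : c * v = v * c := by
          rw [hc, mul_assoc] at hqv
          exact mul_left_cancel hqv
        rw [hc, show v * c * (v * c) = v * (c * v) * c by group, hcv,
          show v * (v * c) * c = (v * v) * (c * c) by group, hvv, one_mul]
        exact hsq c hcQ
    have hDt : cj t D = D := by
      have hle : cj t D ≤ D := by
        rw [cj_le_iff, hD, Subgroup.closure_le]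
        rintro _ ⟨r, hr, rfl⟩
        rw [SetLike.mem_coe, mem_cj, inv_inv, show t * (r * r) * t⁻¹ =
          (t * r * t⁻¹) * (t * r * t⁻¹) by group]
        exact hsqt _ (conj_mem_cj ((hRmem r).1 hr).1)
      exact Subgroup.eq_of_le_of_card_ge hle (card_cj t D).ge
    have := h.eq_bot_of_normalized hDH hDnorm htH hDt
    intro r hr
    rw [← mem_bot, ← this]
    exact subset_closure ⟨r, hr, rfl⟩
  have hRQ : ∀ r ∈ R, ∀ q ∈ Q, q * r = r * q := by
    intro r hr q hq
    obtain ⟨w, hw, r', hr', rfl⟩ := hsplit q hq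
    rw [mul_assoc, hRel.comm hr' hr, ← mul_assoc, hWcomm w hw r ((hRmem r).1 hr).1, mul_assoc]
  have hRc : R ≤ csub B x := by
    intro r hr
    obtain ⟨hrQ, hrv, hrx⟩ := (hRmem r).1 hr
    refine ⟨⟨bcore_le hrQ, hRel r hr, fun b hb => ?_⟩, mem_centralizer_singleton_iff.2 hrx.symm⟩
    by_cases hbc : b ∈ Q
    · exact hRQ r hr b hbc
    · have hm := hRQ r hr _ (h.toData.mul_mem_core hvB hvc hb hbc)
      refine mul_left_cancel (a := v) ?_
      rw [← mul_assoc, hm, ← mul_assoc, ← hrv, mul_assoc]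
  have hRcard : Nat.card R ≤ 2 := (Subgroup.card_le_of_le hRc).trans h.card_csub_le
  -- the complement
  have hxpow : ∀ a ∈ ({1, x, x * x} : Set G), ∀ b ∈ ({1, x, x * x} : Set G),
      a * b ∈ ({1, x, x * x} : Set G) ∧ a⁻¹ ∈ ({1, x, x * x} : Set G) := by
    intro a ha b hb
    simp only [Set.mem_insert_iff, Set.mem_singleton_iff] at ha hb ⊢
    rcases ha with ha | ha | ha <;> rcases hb with hb | hb | hb <;> rw [ha, hb] <;>
      refine ⟨?_, ?_⟩ <;>
      simp [h.inv_eq, mul_assoc, h.pow_three, show x * (x * x) = 1 by rw [← mul_assoc, h.pow_three],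
        show x * (x * (x * x)) = x by rw [← mul_assoc x x x, ← mul_assoc, ← mul_assoc, h.pow_three, one_mul]]
  have hvP : ∀ a ∈ ({1, x, x * x} : Set G), v * a = a⁻¹ * v := by
    intro a ha
    simp only [Set.mem_insert_iff, Set.mem_singleton_iff] at ha
    rcases ha with ha | ha | ha <;> subst a
    · simp
    · exact hxv
    · rw [← mul_assoc, hxv, mul_assoc, hxv, ← mul_assoc, mul_inv_rev]
  let S : Subgroup G :=
    { carrier := {s | ∃ a ∈ ({1, x, x * x} : Set G), s = a ∨ s = a * v}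
      one_mem' := ⟨1, by simp, Or.inl rfl⟩
      mul_mem' := by
        rintro s1 s2 ⟨a, ha, e1 | e1⟩ ⟨b, hb, e2 | e2⟩ <;> subst s1 s2
        · exact ⟨_, (hxpow _ ha _ hb).1, Or.inl rfl⟩
        · exact ⟨_, (hxpow _ ha _ hb).1, Or.inr (by rw [mul_assoc])⟩
        · exact ⟨_, (hxpow _ ha _ (hxpow _ hb _ hb).2).1, Or.inr (by
            rw [mul_assoc, hvP _ hb, mul_assoc])⟩
        · exact ⟨_, (hxpow _ ha _ (hxpow _ hb _ hb).2).1, Or.inl (by
            rw [show a * v * (b * v) = a * (v * b) * v by group, hvP _ hb,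
              show a * (b⁻¹ * v) * v = a * b⁻¹ * (v * v) by group, hvv, mul_one])⟩
      inv_mem' := by
        rintro s1 ⟨a, ha, e1 | e1⟩ <;> subst s1
        · exact ⟨_, (hxpow _ ha _ ha).2, Or.inl rfl⟩
        · exact ⟨_, ha, Or.inr (by rw [mul_inv_rev, hvi, hvP _ (hxpow _ ha _ ha).2, inv_inv])⟩ }
  have hSH : S ≤ H := by
    rintro s ⟨a, ha, he⟩
    simp only [Set.mem_insert_iff, Set.mem_singleton_iff] at ha
    have haH : a ∈ H := by
      rcases ha with ha | ha | ha <;> subst a
      exacts [H.one_mem, h.memH, H.mul_mem h.memH h.memH]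
    rcases he with he | he <;> subst s
    exacts [haH, H.mul_mem haH (h.le hvB)]
  have hSQ : ∀ s ∈ S, s ∈ Q → s = 1 := by
    rintro s ⟨a, ha, he⟩ hs
    simp only [Set.mem_insert_iff, Set.mem_singleton_iff] at ha
    rcases he with he | he <;> subst s
    · rcases ha with ha | ha | ha <;> subst a
      exacts [rfl, absurd (bcore_le hs) (h.three_notMem h.order), absurd (bcore_le hs) h.xx_notMem]
    · rcases ha with ha | ha | ha <;> subst a
      · exact absurd ((one_mul v) ▸ hs) hvc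
      · exact absurd ((B.mul_mem_cancel_right hvB).1 (bcore_le hs)) (h.three_notMem h.order)
      · exact absurd ((B.mul_mem_cancel_right hvB).1 (bcore_le hs)) h.xx_notMem
  have hvWc : ∀ a ∈ W, v * a * v⁻¹ ∈ W := by
    rintro a (ha | ha | ha | ha) <;> rw [ha]
    · exact Or.inl (by group)
    · exact Or.inr (Or.inl hvz)
    · exact Or.inr (Or.inr (Or.inr hvz'))
    · refine Or.inr (Or.inr (Or.inl ?_))
      rw [← hvz', hvi, show v * (v * z' * v) * v = (v * v) * z' * (v * v) by group, hvv, one_mul,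
        mul_one]
  have hxWc : ∀ a ∈ W, x * a * x⁻¹ ∈ W := by
    rintro a (ha | ha | ha | ha) <;> rw [ha]
    · exact Or.inl (by group)
    · exact Or.inr (Or.inr (Or.inl rfl))
    · exact Or.inr (Or.inr (Or.inr hxz'))
    · exact Or.inr (Or.inl (by rw [hz'']; group))
  have hSW : ∀ s ∈ S, ∀ a ∈ W, s * a * s⁻¹ ∈ W := by
    rintro s ⟨a, ha, he⟩ w hw
    have hconj : ∀ w ∈ W, a * w * a⁻¹ ∈ W := by
      intro w hw
      simp only [Set.mem_insert_iff, Set.mem_singleton_iff] at ha
      rcases ha with ha | ha | ha <;> subst a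
      · simpa using hw
      · exact hxWc w hw
      · rw [show x * x * w * (x * x)⁻¹ = x * (x * w * x⁻¹) * x⁻¹ by group]
        exact hxWc _ (hxWc w hw)
    rcases he with he | he <;> subst s
    · exact hconj w hw
    · rw [show a * v * w * (a * v)⁻¹ = a * (v * w * v⁻¹) * a⁻¹ by group]
      exact hconj _ (hvWc w hw)
  let M : Subgroup G :=
    { carrier := {m | ∃ w ∈ W, ∃ s ∈ S, m = w * s}
      one_mem' := ⟨1, W.one_mem, 1, S.one_mem, (one_mul 1).symm⟩
      mul_mem' := by
        rintro _ _ ⟨w, hw, s, hs, rfl⟩ ⟨w', hw', s', hs', rfl⟩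
        exact ⟨w * (s * w' * s⁻¹), W.mul_mem hw (hSW s hs w' hw'), s * s', S.mul_mem hs hs', by group⟩
      inv_mem' := by
        rintro _ ⟨w, hw, s, hs, rfl⟩
        exact ⟨s⁻¹ * w⁻¹ * s, by simpa using hSW s⁻¹ (S.inv_mem hs) w⁻¹ (W.inv_mem hw), s⁻¹,
          S.inv_mem hs, by group⟩ }
  have hMH : M ≤ H := by
    rintro _ ⟨w, hw, s, hs, rfl⟩
    exact H.mul_mem (h.le (bcore_le (hWQ hw))) (hSH hs)
  have hMR : M ⊓ R = ⊥ := by
    rw [eq_bot_iff]
    rintro _ ⟨⟨w, hw, s, hs, rfl⟩, hr⟩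
    have hs1 : s = 1 := hSQ s hs ((Q.mul_mem_cancel_left (hWQ hw)).1 ((hRmem _).1 hr).1)
    subst hs1
    rw [mul_one] at hr ⊢
    exact hRW ▸ (⟨hr, hw⟩ : w ∈ R ⊓ W)
  have hRH : ∀ r ∈ R, ∀ a ∈ H, a * r = r * a := fun r hr =>
    h.toData.commutes (hRc hr).1.2.2 ((hRmem r).1 hr).2.2
  -- `H` is the product
  let φ : M × R →* H :=
    { toFun := fun p => ⟨p.1 * p.2, H.mul_mem (hMH p.1.2) (h.le (bcore_le ((hRmem _).1 p.2.2).1))⟩
      map_one' := Subtype.ext (one_mul 1)
      map_mul' := fun p q => Subtype.ext (by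
        show (p.1 : G) * q.1 * (p.2 * q.2) = p.1 * p.2 * (q.1 * q.2)
        rw [show (p.1 : G) * q.1 * (p.2 * q.2) = p.1 * ((q.1 : G) * p.2) * q.2 by group,
          hRH _ p.2.2 _ (hMH q.1.2)]
        group) }
  have hφi : Function.Injective φ := by
    rw [injective_iff_map_eq_one]
    rintro ⟨⟨m, hm⟩, ⟨r, hr⟩⟩ e
    have e' : m * r = 1 := congrArg Subtype.val e
    have h0 : m ∈ M ⊓ R := ⟨hm, (mul_eq_one_iff_eq_inv.1 e').symm ▸ R.inv_mem hr⟩
    rw [hMR, mem_bot] at h0
    subst h0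
    rw [one_mul] at e'
    subst e'
    rfl
  have hφs : Function.Surjective φ := by
    rintro ⟨a, ha⟩
    -- write `a` as `w r s`
    suffices hh : ∃ w ∈ W, ∃ r ∈ R, ∃ s ∈ S, a = w * r * s by
      obtain ⟨w, hw, r, hr, s, hs, rfl⟩ := hh
      exact ⟨⟨⟨w * s, w, hw, s, hs, rfl⟩, ⟨r, hr⟩⟩, Subtype.ext (by
        show w * s * r = w * r * s
        rw [mul_assoc, hRH r hr s (hSH hs), ← mul_assoc])⟩
    have hB : ∀ b ∈ B, ∃ w ∈ W, ∃ r ∈ R, ∃ s ∈ S, b = w * r * s := by
      intro b hb
      by_cases hbc : b ∈ Q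
      · obtain ⟨w, hw, r, hr, e⟩ := hsplit b hbc
        exact ⟨w, hw, r, hr, 1, S.one_mem, by rw [mul_one, e]⟩
      · obtain ⟨w, hw, r, hr, e⟩ := hsplit _ (h.toData.mul_mem_core hb hbc hvB hvc)
        exact ⟨w, hw, r, hr, v, ⟨1, by simp, Or.inr (one_mul v).symm⟩,
          by rw [← e, mul_assoc, hvv, mul_one]⟩
    have step : ∀ c, (∃ w ∈ W, ∃ r ∈ R, ∃ s ∈ S, c = w * r * s) →
        ∃ w ∈ W, ∃ r ∈ R, ∃ s ∈ S, x * c = w * r * s := by
      rintro _ ⟨w, hw, r, hr, s, hs, rfl⟩
      have hxS : x ∈ S := ⟨x, by simp, Or.inl rfl⟩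
      exact ⟨x * w * x⁻¹, hSW x hxS w hw, r, hr, x * s, S.mul_mem hxS hs, by
        calc x * (w * r * s) = x * w * x⁻¹ * (x * r) * s := by group
          _ = x * w * x⁻¹ * (r * x) * s := by rw [hRH r hr x h.memH]
          _ = _ := by group⟩
    rcases h.coset ha with hb | hb | hb
    · exact hB _ hb
    · obtain e := step _ (hB _ hb)
      rwa [show x * (x⁻¹ * a) = a by group] at e
    · obtain e := step _ (step _ (hB _ hb))
      rwa [show x * (x * (x * a)) = x * x * x * a by group, h.pow_three, one_mul] at e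
  let eH : H ≃* M × R := (MulEquiv.ofBijective φ ⟨hφi, hφs⟩).symm
  -- the complement is symmetric
  let S' := S.subgroupOf M
  have hWS : ∀ w ∈ W, w ∈ S → w = 1 := fun w hw hs => hSQ w hs (hWQ hw)
  have hSle : S ≤ M := fun s hs => ⟨1, W.one_mem, s, hs, (one_mul s).symm⟩
  have hWle : W ≤ M := fun w hw => ⟨w, hw, 1, S.one_mem, (mul_one w).symm⟩
  have hcardMS : Nat.card (M ⧸ S') = 4 := by
    rw [← hWcard]
    refine (Nat.card_congr (Equiv.ofBijective
      (fun w : W => ((⟨w, hWle w.2⟩ : M) : M ⧸ S')) ⟨fun w w' e => ?_, fun c => ?_⟩)).symm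
    · have := QuotientGroup.eq.1 e
      rw [mem_subgroupOf] at this
      exact Subtype.ext (inv_mul_eq_one.1 (hWS _ (W.mul_mem (W.inv_mem w.2) w'.2) this))
    · obtain ⟨⟨m, w, hw, s, hs, rfl⟩, rfl⟩ := QuotientGroup.mk_surjective c
      refine ⟨⟨w, hw⟩, QuotientGroup.eq.2 ?_⟩
      rw [mem_subgroupOf]
      simpa using hs
  have hfix : ∀ s ∈ S, (∀ w ∈ W, w⁻¹ * (s * w) ∈ S) → s = 1 := by
    intro s hs hall
    have hcom : ∀ w ∈ W, s * w = w * s := by
      intro w hw
      have h1 := S.mul_mem (hall w hw) (S.inv_mem hs)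
      rw [show w⁻¹ * (s * w) * s⁻¹ = w⁻¹ * (s * w * s⁻¹) by group] at h1
      have h2 := hWS _ (W.mul_mem (W.inv_mem hw) (hSW s hs w hw)) h1
      rw [inv_mul_eq_one] at h2
      exact mul_inv_eq_iff_eq_mul.1 h2.symm
    have cz := hcom z (Or.inr (Or.inl rfl))
    have cz' := hcom z' (Or.inr (Or.inr (Or.inl rfl)))
    obtain ⟨a, ha, he⟩ := hs
    simp only [Set.mem_insert_iff, Set.mem_singleton_iff] at ha
    have hav : ∀ {c : G}, c * v * z = z * (c * v) → c * z = z * c := fun {c} e => by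
      rw [mul_assoc, hzZ.2.2 v hvB, ← mul_assoc, ← mul_assoc] at e
      exact mul_right_cancel e
    rcases he with he | he <;> subst s
    · rcases ha with ha | ha | ha <;> subst a
      · rfl
      · exact absurd cz hzx
      · refine absurd ?_ hzx
        rw [← h.inv_eq] at cz
        calc x * z = x * (z * x⁻¹) * x := by group
          _ = x * (x⁻¹ * z) * x := by rw [cz]
          _ = z * x := by group
    · rcases ha with ha | ha | ha <;> subst a
      · exfalso
        rw [one_mul] at cz'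
        refine hz1 ?_
        have e : z'' = z' := by rw [← hvz', cz', mul_inv_cancel_right]
        rw [hsum] at e
        exact mul_eq_right.1 e
      · exact absurd (hav cz) hzx
      · refine absurd ?_ hzx
        have cz2 := hav cz
        rw [← h.inv_eq] at cz2
        calc x * z = x * (z * x⁻¹) * x := by group
          _ = x * (x⁻¹ * z) * x := by rw [cz2]
          _ = z * x := by group
  have hS24 : Nat.card M = 24 := by
    have h6 : Nat.card S = 6 := by
      have hset : (S : Set G) = (({1, x, x * x, v, x * v, x * x * v} : Finset G) : Set G) := by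
        ext s
        simp only [Finset.coe_insert, Finset.coe_singleton, Set.mem_insert_iff,
          Set.mem_singleton_iff]
        constructor
        · rintro ⟨a, ha, rfl | rfl⟩ <;> simp only [Set.mem_insert_iff, Set.mem_singleton_iff] at ha <;>
            rcases ha with ha | ha | ha <;> subst ha <;> simp
        · rintro (rfl | rfl | rfl | rfl | rfl | rfl)
          exacts [⟨1, by simp, Or.inl rfl⟩, ⟨s, by simp, Or.inl rfl⟩, ⟨_, by simp, Or.inl rfl⟩,
            ⟨1, by simp, Or.inr (one_mul s).symm⟩, ⟨x, by simp, Or.inr rfl⟩, ⟨x * x, by simp, Or.inr rfl⟩]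
      have nx : x ∉ B := h.three_notMem h.order
      have nxx : x * x ∉ B := h.xx_notMem
      have hx1 : x ≠ 1 := fun e => nx (e ▸ B.one_mem)
      have hxx1 : x * x ≠ 1 := fun e => nxx (e ▸ B.one_mem)
      have hxxx : x * x ≠ x := fun e => hx1 (mul_eq_left.1 e)
      have hv1 : v ≠ 1 := fun e => hvc (e ▸ Q.one_mem)
      have nxv : x * v ∉ B := fun e => nx ((B.mul_mem_cancel_right hvB).1 e)
      have nxxv : x * x * v ∉ B := fun e => nxx ((B.mul_mem_cancel_right hvB).1 e)
      have d1 : x ≠ x * v := fun e => hv1 (mul_eq_left.1 e.symm)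
      have d2 : x * x ≠ x * x * v := fun e => hv1 (mul_eq_left.1 e.symm)
      have d3 : x * v ≠ x * x * v := fun e => hxxx (mul_right_cancel e).symm
      have d4 : x ≠ x * x * v := fun e => nxv (by
        have : x * v = 1 := by
          rw [mul_assoc] at e
          exact (mul_eq_left.1 e.symm)
        rw [this]; exact B.one_mem)
      have d5 : x * x ≠ x * v := fun e => nx (mul_left_cancel e ▸ hvB)
      rw [← SetLike.coe_sort_coe, hset, Nat.card_coe_set_eq, Set.ncard_coe_finset]
      repeat' rw [Finset.card_insert_of_notMem]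
      · simp
      all_goals
        simp only [Finset.mem_insert, Finset.mem_singleton, not_or]
        repeat' constructor
        all_goals first
          | exact Ne.symm hx1 | exact Ne.symm hxx1 | exact Ne.symm hv1
          | exact Ne.symm hxxx | exact d1 | exact d2 | exact d3 | exact d4 | exact d5
          | exact fun e => nx (e ▸ hvB) | exact fun e => nxx (e ▸ hvB)
          | exact fun e => nxv (e ▸ B.one_mem) | exact fun e => nxxv (e ▸ B.one_mem)
          | exact fun e => nxv (e ▸ hvB) | exact fun e => nxxv (e ▸ hvB)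
    have := S'.card_mul_index
    rw [Nat.card_congr (subgroupOfEquivOfLe hSle).toEquiv, h6, Subgroup.index_eq_card,
      hcardMS] at this
    omega
  have e4 : M ⧸ S' ≃ Fin 4 := (Finite.equivFinOfCardEq hcardMS)
  let ρ : M →* Equiv.Perm (Fin 4) :=
    e4.permCongrHom.toMonoidHom.comp (MulAction.toPermHom M (M ⧸ S'))
  have hρ : Function.Bijective ρ := by
    refine (Nat.bijective_iff_injective_and_card _).2 ⟨?_, by
      rw [hS24, Nat.card_perm, Nat.card_fin]; rfl⟩
    refine e4.permCongrHom.injective.comp ((injective_iff_map_eq_one _).2 fun m hm => ?_)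
    have hmS : ∀ n : M, n⁻¹ * (m * n) ∈ S' := fun n => by
      have h1 : ((m * n : M) : M ⧸ S') = (n : M ⧸ S') :=
        congrArg (fun p : Equiv.Perm (M ⧸ S') => p (n : M ⧸ S')) hm
      exact QuotientGroup.eq.1 h1.symm
    have h1 := hmS 1
    rw [inv_one, one_mul, mul_one, mem_subgroupOf] at h1
    exact Subtype.ext (hfix m h1 fun w hw => by simpa [S', mem_subgroupOf] using hmS ⟨w, hWle hw⟩)
  let eM : M ≃* Equiv.Perm (Fin 4) := MulEquiv.ofBijective ρ hρ
  rcases Nat.lt_or_ge (Nat.card R) 2 with h1 | h1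
  · left
    haveI : Subsingleton R := (Nat.card_eq_one_iff_unique.1 (by
      have : 0 < Nat.card R := Nat.card_pos
      omega)).1
    let p : M × R ≃* M :=
      { toFun := fun q => q.1
        invFun := fun m => (m, 1)
        left_inv := fun q => Prod.ext rfl (Subsingleton.elim _ _)
        right_inv := fun m => rfl
        map_mul' := fun a b => rfl }
    exact ⟨eH.trans (p.trans eM)⟩
  · right
    haveI : Fact (Nat.Prime 2) := ⟨Nat.prime_two⟩
    haveI : IsCyclic R := isCyclic_of_prime_card (p := 2) (le_antisymm hRcard h1)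
    have eR : R ≃* Multiplicative (ZMod 2) := mulEquivOfCyclicCardEq (by
      rw [le_antisymm hRcard h1]
      simp)
    exact ⟨eH.trans (eM.prodCongr eR)⟩

/-- The structure of the stabilizer when a conjugate of `V` leaves the core. -/
theorem Cons.one_step (h : Cons H B g k x) {t : G} (htB : cj t B = B) (htH : t ∉ H) {v : G}
    (hv : v ∈ cj t (vsub B x)) (hvc : v ∉ bcore H B) :
    Nonempty (H ≃* Equiv.Perm (Fin 4)) ∨
      Nonempty (H ≃* Equiv.Perm (Fin 4) × Multiplicative (ZMod 2)) := by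
  have hvB : v ∈ B := ((cj_mono (h.vsub_le.trans bcore_le)).trans_eq htB) hv
  have hvv : v * v = 1 := by
    obtain ⟨u, hu, rfl⟩ := hv
    rw [← map_mul, h.isEl_vsub u hu, map_one]
  obtain ⟨y, hy, ho, hinv⟩ := h.exists_inverted hvB hvc hvv
  have h' := h.change hy ho
  exact h'.one_step' htB htH ((h.vsub_eq h').symm ▸ hv) hvc hinv

end CfsgLib.Char.SuborbitThree
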